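import Mathlib
import Cfsg.Agent.H900.Gen.Basic

/-!
# S2187, classical rows: decomposition of `V` under an elementary abelian group of isometries

`Gd Φ A X` : `X` is a nondegenerate irreducible nontrivial `A`-submodule.
`exists_odec` : if `A` leaves no nonzero totally singular subspace invariant then `V = C_V(A) ⟂ X i₁ ⟂ ... ⟂ X iₛ`.
-/

set_option autoImplicit false
set_option linter.unusedSectionVars false

namespace Cfsg.Agent.H900.Gen

open Cfsg.Agent.H847.Bs QuadraticMap Cfsg.Agent.LieClassical.OrthCore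

variable {F V : Type*} [Field F] [AddCommGroup V] [Module F V] [Finite F] [FiniteDimensional F V]

/-- `Y` is `A`-invariant -/
def InvA (A : Subgroup (V ≃ₗ[F] V)) (Y : Submodule F V) : Prop := ∀ a ∈ A, Inv a Y

/-- no nonzero invariant totally singular subspace -/
def Anis (Φ : Frm F V) (A : Subgroup (V ≃ₗ[F] V)) : Prop := ∀ Y : Submodule F V, InvA A Y → Φ.TI Y → Y = ⊥

/-- nondegenerate irreducible nontrivial submodules -/
structure Gd (Φ : Frm F V) (A : Subgroup (V ≃ₗ[F] V)) (X : Submodule F V) : Prop where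
  inv : InvA A X
  ne : X ≠ ⊥
  min : ∀ Y ≤ X, InvA A Y → Y = ⊥ ∨ Y = X
  nd : Φ.NdOn X
  nt : ∃ a ∈ A, ∃ x ∈ X, a x ≠ x

/-- the data: `A` is an elementary abelian `p`-group of isometries, `p` odd and prime to the characteristic -/
structure Ea (Φ : Frm F V) (p : ℕ) (A : Subgroup (V ≃ₗ[F] V)) : Prop where
  le : A ≤ Φ.Iso
  comm : ∀ a ∈ A, ∀ b ∈ A, a * b = b * a
  pow : ∀ a ∈ A, a ^ p = 1
  prime : p.Prime
  odd : p ≠ 2
  char : (p : F) ≠ 0

variable {Φ : Frm F V} {A : Subgroup (V ≃ₗ[F] V)} {p : ℕ}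

theorem perp_inv (hA : A ≤ Φ.Iso) {Y : Submodule F V} (hY : InvA A Y) : InvA A (perp Φ Y) := by
  intro a ha x hx y hy
  have h1 : ∀ z, a (a⁻¹ z) = z := fun z => a.apply_symm_apply z
  rw [← h1 y, (hA ha).1]
  exact hx _ (hY _ (A.inv_mem ha) y hy)

/-- a minimal invariant subspace -/
theorem exists_minimal {Y : Submodule F V} (hY : InvA A Y) (h0 : Y ≠ ⊥) :
    ∃ X ≤ Y, InvA A X ∧ X ≠ ⊥ ∧ ∀ Z ≤ X, InvA A Z → Z = ⊥ ∨ Z = X := by
  have hfin : Finite V := Module.finite_of_finite F
  have : Finite (Submodule F V) := Finite.of_injective (fun X : Submodule F V => (X : Set V)) SetLike.coe_injective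
  obtain ⟨X, hX, hmin⟩ := Set.Finite.exists_minimal (Set.toFinite {X : Submodule F V | X ≤ Y ∧ InvA A X ∧ X ≠ ⊥})
    ⟨Y, le_rfl, hY, h0⟩
  refine ⟨X, hX.1, hX.2.1, hX.2.2, fun Z hZ hZi => ?_⟩
  by_cases h : Z = ⊥
  · exact Or.inl h
  · exact Or.inr (le_antisymm hZ (hmin ⟨hZ.trans hX.1, hZi, h⟩ hZ))

/-- the sum of the powers of `a` -/
def trA (p : ℕ) (a : V ≃ₗ[F] V) : V →ₗ[F] V := ∑ i ∈ Finset.range p, ((a ^ i : V ≃ₗ[F] V) : V →ₗ[F] V)

theorem trA_apply (a : V ≃ₗ[F] V) (v : V) : trA p a v = ∑ i ∈ Finset.range p, (a ^ i) v := by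
  simp [trA]

theorem trA_sub (a : V ≃ₗ[F] V) (hap : a ^ p = 1) (v : V) : trA p a (a v - v) = 0 := by
  rw [map_sub, trA_apply, trA_apply]
  have h1 : ∀ i, (a ^ i) (a v) = (a ^ (i + 1)) v := fun i => by
    rw [pow_succ]
    rfl
  simp only [h1]
  rw [← Finset.sum_sub_distrib, Finset.sum_range_sub (fun i => (a ^ i) v), hap, pow_zero, sub_self]

theorem trA_fix {a : V ≃ₗ[F] V} {v : V} (h : a v = v) : trA p a v = (p : F) • v := by
  rw [trA_apply]
  have h1 : ∀ i : ℕ, (a ^ i) v = v := by
    intro i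
    induction i with
    | zero => rfl
    | succ i ih => rw [pow_succ, LinearEquiv.mul_apply, h, ih]
  simp only [h1, Finset.sum_const, Finset.card_range]
  rw [Nat.cast_smul_eq_nsmul]

theorem trA_comm {a c : V ≃ₗ[F] V} (h : a * c = c * a) (v : V) : trA p a (c v) = c (trA p a v) := by
  rw [trA_apply, trA_apply, map_sum]
  refine Finset.sum_congr rfl fun i _ => ?_
  have h1 : a ^ i * c = c * a ^ i := (show Commute a c from h).pow_left i
  exact congrArg (fun g : V ≃ₗ[F] V => g v) h1

/-- a nontrivial invariant nondegenerate subspace contains a good subspace -/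
theorem exists_good (hΦ : Cl Φ) (hE : Ea Φ p A) (hAn : Anis Φ A) {W : Submodule F V} (hWi : InvA A W)
    (hnt : ∃ a ∈ A, ∃ x ∈ W, a x ≠ x) : ∃ X ≤ W, Gd Φ A X := by
  obtain ⟨a, ha, w, hw, haw⟩ := hnt
  let Y : Submodule F V := W ⊓ LinearMap.ker (trA p a)
  have hY : InvA A Y := by
    intro c hc x hx
    refine ⟨hWi c hc x hx.1, ?_⟩
    rw [SetLike.mem_coe, LinearMap.mem_ker, trA_comm (hE.comm a ha c hc), LinearMap.mem_ker.1 hx.2, map_zero]
  have hY0 : Y ≠ ⊥ := by
    intro h
    have h1 : a w - w ∈ Y := ⟨W.sub_mem (hWi a ha w hw) hw, LinearMap.mem_ker.2 (trA_sub a (hE.pow a ha) w)⟩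
    rw [h, Submodule.mem_bot, sub_eq_zero] at h1
    exact haw h1
  obtain ⟨X, hXY, hXi, hX0, hmin⟩ := exists_minimal hY hY0
  -- `a` has no nonzero fixed points in `X`
  have hfix : ∀ x ∈ X, a x = x → x = 0 := by
    intro x hx h
    have h1 : trA p a x = 0 := LinearMap.mem_ker.1 (hXY hx).2
    rw [trA_fix h] at h1
    rcases smul_eq_zero.1 h1 with h2 | h2
    · exact absurd h2 hE.char
    · exact h2
  refine ⟨X, hXY.trans inf_le_left, hXi, hX0, hmin, ?_, ?_⟩
  · -- nondegenerate
    have hR : InvA A (X ⊓ perp Φ X) := by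
      intro c hc x hx
      exact ⟨hXi c hc x hx.1, perp_inv hE.le hXi c hc x hx.2⟩
    rcases hmin _ inf_le_left hR with h | h
    · intro x hx h1
      have h2 : x ∈ X ⊓ perp Φ X := ⟨hx, h1⟩
      rw [h, Submodule.mem_bot] at h2
      exact h2
    · exfalso
      have hB : ∀ x ∈ X, ∀ y ∈ X, Φ.B x y = 0 := by
        intro x hx y hy
        rw [← h] at hx
        exact hx.2 y hy
      -- the set of singular vectors of `X`
      let Z : Submodule F V :=
        { carrier := {x | x ∈ X ∧ Φ.q x = 0}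
          add_mem' := fun {x y} hx hy => ⟨X.add_mem hx.1 hy.1, by
            rw [Φ.q_add x y (hB x hx.1 y hy.1), hx.2, hy.2, add_zero]⟩
          zero_mem' := ⟨X.zero_mem, by
            have := Φ.q_add 0 0 (B_zero_left Φ 0)
            rw [add_zero] at this
            linear_combination -this⟩
          smul_mem' := fun c x hx => ⟨X.smul_mem c hx.1, by
            rcases hΦ with h | ⟨r, h⟩ | ⟨Q, h, -⟩
            · exact h.q _
            · exact h.q _
            · subst h
              show Q (c • x) = 0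
              have h2 : Q x = 0 := hx.2
              rw [QuadraticMap.map_smul, h2, smul_zero]⟩ }
      have hZi : InvA A Z := fun c hc x hx => ⟨hXi c hc x hx.1, by rw [(hE.le hc).2]; exact hx.2⟩
      have hZTI : Φ.TI Z := ⟨fun x hx y hy => hB x hx.1 y hy.1, fun x hx => hx.2⟩
      have hZ0 := hAn Z hZi hZTI
      -- then every `x` is fixed by `a`
      obtain ⟨x, hx, hx0⟩ := (Submodule.ne_bot_iff _).1 hX0
      have h2 : a x - x ∈ Z := by
        refine ⟨X.sub_mem (hXi a ha x hx) hx, ?_⟩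
        have hneg : ∀ y ∈ X, Φ.q (-y) = -Φ.q y := by
          intro y hy
          have h3 := Φ.q_add y (-y) (by rw [B_neg_right, hB y hy y hy, neg_zero])
          have h0 : Φ.q 0 = 0 := Z.zero_mem.2
          rw [add_neg_cancel, h0] at h3
          linear_combination -h3
        rw [sub_eq_add_neg, Φ.q_add _ _ (by rw [B_neg_right, hB _ (hXi a ha x hx) x hx, neg_zero]), hneg x hx,
          (hE.le ha).2, add_neg_cancel]
      rw [hZ0, Submodule.mem_bot, sub_eq_zero] at h2
      exact hx0 (hfix x hx h2)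
  · obtain ⟨x, hx, hx0⟩ := (Submodule.ne_bot_iff _).1 hX0
    exact ⟨a, ha, x, hx, fun h => hx0 (hfix x hx h)⟩

/-- the orthogonal complement of a nondegenerate subspace is nondegenerate -/
theorem perp_nd (hN : Φ.Nd) {W : Submodule F V} (hW : Φ.NdOn W) : Φ.NdOn (perp Φ W) := by
  intro x hx h
  apply hN
  intro y
  obtain ⟨w, hw, z, hz, rfl⟩ := exists_dec hW y
  rw [Φ.add_right, hx w hw, h z hz, add_zero]

/-- **Decomposition.** -/
theorem exists_odec (hΦ : Cl Φ) (hE : Ea Φ p A) (hAn : Anis Φ A) :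
    ∃ (S : Set (Submodule F V)) (U : Submodule F V), ODec Φ U (fun X : S => (X : Submodule F V)) ∧
      (∀ X ∈ S, Gd Φ A X) ∧ ∀ u ∈ U, ∀ a ∈ A, a u = u := by
  have hfin : Finite V := Module.finite_of_finite F
  have : Finite (Submodule F V) := Finite.of_injective (fun X : Submodule F V => (X : Set V)) SetLike.coe_injective
  obtain ⟨S, hS, hmax⟩ := Set.Finite.exists_maximal (Set.toFinite {S : Set (Submodule F V) |
    (∀ X ∈ S, Gd Φ A X) ∧ ∀ X ∈ S, ∀ Y ∈ S, X ≠ Y → Φ.Orth X Y}) ⟨∅, by simp⟩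
  obtain ⟨hS1, hS2⟩ := hS
  let W : Submodule F V := ⨆ X : S, (X : Submodule F V)
  have hle : ∀ X ∈ S, X ≤ W := fun X hX => le_iSup (fun X : S => (X : Submodule F V)) ⟨X, hX⟩
  -- `W` is nondegenerate
  have hWn : Φ.NdOn W := by
    intro x hx h
    have hS' : Finite S := inferInstance
    have := Fintype.ofFinite S
    have h2 : x ∈ ⨆ i ∈ (Finset.univ : Finset S), (i : Submodule F V) := by simpa [W] using hx
    obtain ⟨μ, hμ⟩ := (Submodule.mem_iSup_finset_iff_exists_sum _ _).1 h2
    have h3 : ∀ i : S, (μ i : V) = 0 := by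
      intro i
      refine (hS1 i i.2).nd _ (μ i).2 fun y hy => ?_
      have h4 := h y (hle i i.2 hy)
      rw [← hμ] at h4
      have h5 : ∀ (s : Finset S), Φ.B (∑ j ∈ s, (μ j : V)) y = ∑ j ∈ s, Φ.B (μ j) y := by
        classical
        intro s
        induction s using Finset.induction_on with
        | empty => rw [Finset.sum_empty, Finset.sum_empty, B_zero_left]
        | insert j s hj ih => rw [Finset.sum_insert hj, Finset.sum_insert hj, Φ.add_left, ih]
      rw [h5, Finset.sum_eq_single i] at h4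
      · exact h4
      · intro j _ hji
        exact hS2 j j.2 i i.2 (fun h => hji (Subtype.ext h)) _ (μ j).2 y hy
      · intro h
        exact absurd (Finset.mem_univ i) h
    rw [← hμ]
    exact Finset.sum_eq_zero fun i _ => h3 i
  have hWi : InvA A W := by
    intro a ha x hx
    have h1 : W ≤ W.comap (a : V →ₗ[F] V) := by
      refine iSup_le fun X => ?_
      intro y hy
      exact hle X X.2 ((hS1 X X.2).inv a ha y hy)
    exact h1 hx
  have hUi := perp_inv hE.le hWi
  refine ⟨S, perp Φ W, ⟨?_, perp_nd hΦ.nd hWn, fun X => (hS1 X X.2).nd, ?_, ?_⟩, hS1, ?_⟩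
  · rw [sup_comm]
    exact (isCompl_perp Φ hWn).sup_eq_top
  · intro X u hu x hx
    exact hu x (hle X X.2 hx)
  · intro X Y h
    exact hS2 X X.2 Y Y.2 fun h' => h (Subtype.ext h')
  · by_contra hcon
    push Not at hcon
    obtain ⟨u, hu, a, ha, hau⟩ := hcon
    obtain ⟨X, hXU, hX⟩ := exists_good hΦ hE hAn hUi ⟨a, ha, u, hu, hau⟩
    have h1 : X ∉ S := by
      intro h
      apply hX.ne
      rw [eq_bot_iff]
      intro x hx
      exact hWn x (hle X h hx) (hXU hx)
    have h2 : insert X S ⊆ S := by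
      refine hmax ⟨?_, ?_⟩ (Set.subset_insert X S)
      · intro Y hY
        rcases Set.mem_insert_iff.1 hY with rfl | hY
        · exact hX
        · exact hS1 Y hY
      · intro Y hY Z hZ hYZ
        rcases Set.mem_insert_iff.1 hY with e | hY'
        · rcases Set.mem_insert_iff.1 hZ with e' | hZ'
          · exact absurd (e.trans e'.symm) hYZ
          · intro x hx z hz
            rw [e] at hx
            exact hXU hx z (hle Z hZ' hz)
        · rcases Set.mem_insert_iff.1 hZ with e' | hZ'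
          · intro x hx z hz
            rw [e'] at hz
            exact (B_comm_zero Φ).1 (hXU hz x (hle Y hY' hx))
          · exact hS2 Y hY' Z hZ' hYZ
    exact h1 (h2 (Set.mem_insert X S))

end Cfsg.Agent.H900.Gen
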