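import Mathlib
import Cfsg.Agent.H900.Gen.Dec

/-!
# S2187, classical rows: the statement of linear algebra

`LinIso Φ p D` : `D` is the quasisimple group (`E Q`, `Φ.Iso ⊓ slV`, `Φ.Iso`) inside the isometry group.
Every anisotropic elementary abelian `A` of rank at least two lies in an `A'` such that a subgroup `N` of the isometry
group which contains the normalizer of `A'` and the centralizers in `D` of the hyperplanes of `A'` is everything.
-/

set_option autoImplicit false
set_option linter.unusedSectionVars false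

namespace Cfsg.Agent.H900.Gen

open Cfsg.Agent.H847.Bs QuadraticMap Cfsg.Agent.LieClassical.OrthCore

variable {F V : Type*} [Field F] [AddCommGroup V] [Module F V]

/-- `N` contains the normalizer of `A` and the centralizers in `D` of the subgroups `H` with `A = H ⟨c⟩` -/
structure NH (Φ : Frm F V) (D A N : Subgroup (V ≃ₗ[F] V)) : Prop where
  le : N ≤ Φ.Iso
  n1 : ∀ g ∈ Φ.Iso, (∀ a ∈ A, g * a * g⁻¹ ∈ A) → g ∈ N
  n2 : ∀ c ∈ A, ∀ H ≤ A, A ≤ H ⊔ Subgroup.zpowers c → ∀ g ∈ D, (∀ f ∈ H, g * f = f * g) → g ∈ N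

/-- the statement of linear algebra -/
def LinIso [Finite F] [FiniteDimensional F V] (Φ : Frm F V) (p : ℕ) (D : Subgroup (V ≃ₗ[F] V)) : Prop :=
  ∀ A : Subgroup (V ≃ₗ[F] V), Ea Φ p A → p ^ 2 ≤ Nat.card A → Anis Φ A →
    ∃ A' : Subgroup (V ≃ₗ[F] V), Ea Φ p A' ∧ A ≤ A' ∧ ∀ N : Subgroup (V ≃ₗ[F] V), NH Φ D A' N → Φ.Iso ≤ N

theorem iso_frmQ (Q : QuadraticForm F V) : (frmQ Q).Iso = O Q := by
  ext g
  exact ⟨fun h => h.2, fun h => ⟨fun x y => polar_map h x y, h⟩⟩

end Cfsg.Agent.H900.Gen
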