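import Mathlib
import Cfsg.Agent.H900.Gen.Dec
import Cfsg.Agent.H900.Gen.StmtO

/-!
# S2187, classical rows: irreducible modules of an elementary abelian group

On an irreducible module `X` on which `a ∈ A` is nontrivial, `A` acts through the powers of `a`.
-/

set_option autoImplicit false
set_option linter.unusedSectionVars false

namespace Cfsg.Agent.H900.Gen

open Cfsg.Agent.H847.Bs QuadraticMap Cfsg.Agent.LieClassical.OrthCore

variable {F V : Type*} [Field F] [AddCommGroup V] [Module F V] [Finite F] [FiniteDimensional F V]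
variable {Φ : Frm F V} {A : Subgroup (V ≃ₗ[F] V)} {p : ℕ} {X : Submodule F V}

theorem pow_fix {a : V ≃ₗ[F] V} {v : V} (h : a v = v) (i : ℕ) : (a ^ i) v = v := by
  induction i with
  | zero => rfl
  | succ i ih => rw [pow_succ, LinearEquiv.mul_apply, h, ih]

/-- the fixed points of `a ^ k` are the fixed points of `a` -/
theorem fix_of_pow (hp : p.Prime) {a : V ≃ₗ[F] V} (hap : a ^ p = 1) {k : ℕ} (hk : ¬ p ∣ k) {v : V} (h : (a ^ k) v = v) :
    a v = v := by
  have hc : Nat.Coprime k p := ((Nat.Prime.coprime_iff_not_dvd hp).2 hk).symm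
  obtain ⟨m, -, hm⟩ := Nat.exists_mul_mod_eq_one_of_coprime hc hp.one_lt
  have h1 : (a ^ k) ^ m = a := by
    rw [← pow_mul, ← Nat.div_add_mod (k * m) p, hm, pow_add, pow_mul, hap, one_pow, one_mul, pow_one]
  have h2 := pow_fix h m
  rwa [h1] at h2

/-- an element of `A` which is nontrivial on the irreducible module `X` has no fixed points on it -/
theorem Gd.fix_free (hE : Ea Φ p A) (hX : Gd Φ A X) {a : V ≃ₗ[F] V} (ha : a ∈ A) (hnt : ∃ x ∈ X, a x ≠ x) {x : V}
    (hx : x ∈ X) (h : a x = x) : x = 0 := by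
  let Y : Submodule F V := X ⊓ LinearMap.ker ((a : V →ₗ[F] V) - LinearMap.id)
  have hmem : ∀ y, y ∈ Y ↔ y ∈ X ∧ a y = y := by
    intro y
    rw [Submodule.mem_inf, LinearMap.mem_ker, LinearMap.sub_apply, LinearMap.id_apply, sub_eq_zero]
    rfl
  have hY : InvA A Y := by
    intro c hc y hy
    rw [hmem] at hy ⊢
    refine ⟨hX.inv c hc y hy.1, ?_⟩
    have h1 : a (c y) = c (a y) := congrArg (fun g : V ≃ₗ[F] V => g y) (hE.comm a ha c hc)
    rw [h1, hy.2]
  rcases hX.min Y inf_le_left hY with h1 | h1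
  · have h2 : x ∈ Y := (hmem x).2 ⟨hx, h⟩
    rw [h1, Submodule.mem_bot] at h2
    exact h2
  · obtain ⟨z, hz, hz1⟩ := hnt
    rw [← h1] at hz
    exact absurd ((hmem z).1 hz).2 hz1

theorem pow_apply_comm {a c : V ≃ₗ[F] V} (h : a * c = c * a) (j k : ℕ) : (a ^ j * c) ^ k = (a ^ k) ^ j * c ^ k := by
  have h1 : Commute (a ^ j) c := (show Commute a c from h).pow_left j
  rw [h1.mul_pow, ← pow_mul, ← pow_mul, mul_comm j k]

/-- `A` acts on `X` through the powers of `a` -/
theorem Gd.exists_pow (hE : Ea Φ p A) (hX : Gd Φ A X) {a : V ≃ₗ[F] V} (ha : a ∈ A) (hnt : ∃ x ∈ X, a x ≠ x)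
    {c : V ≃ₗ[F] V} (hc : c ∈ A) : ∃ j : ℕ, ∀ x ∈ X, c x = (a ^ j) x := by
  by_contra hcon
  push Not at hcon
  have hac := hE.comm a ha c hc
  have hap := hE.pow a ha
  have hcp := hE.pow c hc
  -- `a ^ j * c` has no fixed points on `X`
  have h1 : ∀ j : ℕ, ∀ x ∈ X, (a ^ j * c) x = x → x = 0 := by
    intro j x hx h
    have hm : a ^ j * c ∈ A := A.mul_mem (A.pow_mem ha j) hc
    by_cases hnt' : ∃ x ∈ X, (a ^ j * c) x ≠ x
    · exact hX.fix_free hE hm hnt' hx h
    · push Not at hnt'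
      exfalso
      -- then `c = a ^ (-j)` on `X`
      obtain ⟨y, hy, hy1⟩ := hcon (j * (p - 1))
      apply hy1
      have h2 := hnt' y hy
      have h3 : a ^ (j * (p - 1)) * a ^ j = 1 := by
        rw [← pow_add]
        have : j * (p - 1) + j = p * j := by
          have := hE.prime.one_lt
          obtain ⟨q, rfl⟩ := Nat.exists_eq_add_of_le' this.le
          rw [Nat.add_sub_cancel]
          ring
        rw [this, pow_mul, hap, one_pow]
      calc c y = (a ^ (j * (p - 1)) * a ^ j) (c y) := by rw [h3]; rfl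
        _ = (a ^ (j * (p - 1))) ((a ^ j * c) y) := rfl
        _ = (a ^ (j * (p - 1))) y := by rw [h2]
  have h2 : ∀ x ∈ X, a x = x → x = 0 := fun x hx h => hX.fix_free hE ha hnt hx h
  -- the traces vanish
  have htr : ∀ g ∈ A, (∀ x ∈ X, g x = x → x = 0) → ∀ x ∈ X, trA p g x = 0 := by
    intro g hg hfix x hx
    apply hfix
    · rw [trA_apply]
      exact X.sum_mem fun i _ => hX.inv _ (A.pow_mem hg i) x hx
    · rw [← trA_comm (show g * g = g * g from rfl)]
      have := trA_sub g (hE.pow g hg) x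
      rwa [map_sub, sub_eq_zero] at this
  have hXne := hX.ne
  obtain ⟨x, hx, hx0⟩ := (Submodule.ne_bot_iff _).1 hXne
  have h3 : ∑ j ∈ Finset.range p, trA p (a ^ j * c) x = 0 :=
    Finset.sum_eq_zero fun j _ => htr _ (A.mul_mem (A.pow_mem ha j) hc) (h1 j) x hx
  simp only [trA_apply] at h3
  rw [Finset.sum_comm] at h3
  have h4 : ∀ k ∈ Finset.range p, ∑ j ∈ Finset.range p, ((a ^ j * c) ^ k) x = if k = 0 then (p : F) • x else 0 := by
    intro k hk
    split_ifs with hk0
    · subst hk0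
      have : ∀ j : ℕ, ((a ^ j * c) ^ 0) x = x := fun j => rfl
      simp only [this, Finset.sum_const, Finset.card_range]
      rw [Nat.cast_smul_eq_nsmul]
    · have hkp : ¬ p ∣ k := fun h => hk0 (Nat.eq_zero_of_dvd_of_lt h (Finset.mem_range.1 hk))
      have h5 : ∀ j : ℕ, ((a ^ j * c) ^ k) x = ((a ^ k) ^ j) ((c ^ k) x) := by
        intro j
        rw [pow_apply_comm hac]
        rfl
      simp only [h5]
      rw [← trA_apply]
      refine htr _ (A.pow_mem ha k) (fun y hy h => h2 y hy (fix_of_pow hE.prime hap hkp h)) _ ?_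
      exact hX.inv _ (A.pow_mem hc k) x hx
  rw [Finset.sum_congr rfl h4, Finset.sum_ite_eq' (Finset.range p) 0, if_pos (Finset.mem_range.2 hE.prime.pos)] at h3
  rcases smul_eq_zero.1 h3 with h5 | h5
  · exact hE.char h5
  · exact hx0 h5

/-- `X` is irreducible under `a` -/
theorem Gd.irr (hE : Ea Φ p A) (hX : Gd Φ A X) {a : V ≃ₗ[F] V} (ha : a ∈ A) (hnt : ∃ x ∈ X, a x ≠ x)
    {Y : Submodule F V} (hYX : Y ≤ X) (hY : Inv a Y) : Y = ⊥ ∨ Y = X := by
  refine hX.min Y hYX fun c hc y hy => ?_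
  obtain ⟨j, hj⟩ := hX.exists_pow hE ha hnt hc
  rw [hj y (hYX hy)]
  have h1 : ∀ i : ℕ, (a ^ i) y ∈ Y := by
    intro i
    induction i with
    | zero => exact hy
    | succ i ih =>
      rw [pow_succ', LinearEquiv.mul_apply]
      exact hY _ ih
  exact h1 j

end Cfsg.Agent.H900.Gen
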