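import Mathlib
import Cfsg.Agent.H900.Gen.Basic

/-!
# S2187, classical rows: orbits of vectors

`orbit` : every vector can be moved by `N` into some `U ⊔ X i`.
`orbit_R` : `N` contains every isometry which fixes a hyperplane `v^⟂` pointwise.
-/

set_option autoImplicit false
set_option linter.unusedSectionVars false

namespace Cfsg.Agent.H900.Gen

open Cfsg.Agent.H847.Bs QuadraticMap Cfsg.Agent.LieClassical.OrthCore

variable {F V : Type*} [Field F] [AddCommGroup V] [Module F V]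

section

variable {Φ : Frm F V} {ι : Type*} {U : Submodule F V} {X : ι → Submodule F V} {N : Subgroup (V ≃ₗ[F] V)}

theorem ODec.prp_U (hd : ODec Φ U X) {u : V} (hu : u ∈ U) {i j : ι} : Prp Φ (X i ⊔ X j) u := by
  intro w hw
  obtain ⟨a, ha, b, hb, rfl⟩ := Submodule.mem_sup.1 hw
  rw [Φ.add_right, hd.orthU i u hu a ha, hd.orthU j u hu b hb, add_zero]

theorem ODec.prp_X (hd : ODec Φ U X) {i j k : ι} (hki : k ≠ i) (hkj : k ≠ j) {x : V} (hx : x ∈ X k) :
    Prp Φ (X i ⊔ X j) x := by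
  intro w hw
  obtain ⟨a, ha, b, hb, rfl⟩ := Submodule.mem_sup.1 hw
  rw [Φ.add_right, hd.orth k i hki x hx a ha, hd.orth k j hkj x hx b hb, add_zero]

theorem orbit_aux [Nonempty ι] (hd : ODec Φ U X) (hMg : ∀ i j, i ≠ j → Mg Φ N (X i) (X j)) :
    ∀ (k : ℕ) (s : Finset ι) (u : V) (x : ι → V), s.card ≤ k → u ∈ U → (∀ i ∈ s, x i ∈ X i) →
      ∃ n ∈ N, ∃ i, n (u + ∑ j ∈ s, x j) ∈ U ⊔ X i := by
  classical
  intro k
  induction k with
  | zero =>
    intro s u x hs hu hx
    have h1 : s = ∅ := Finset.card_eq_zero.1 (by omega)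
    subst h1
    obtain ⟨i⟩ := ‹Nonempty ι›
    refine ⟨1, N.one_mem, i, ?_⟩
    rw [Finset.sum_empty, add_zero]
    exact Submodule.mem_sup_left hu
  | succ k ih =>
    intro s u x hs hu hx
    by_cases hk : s.card ≤ k
    · exact ih s u x hk hu hx
    by_cases h1 : s.card ≤ 1
    · rcases Nat.le_one_iff_eq_zero_or_eq_one.1 h1 with h2 | h2
      · have h3 : s = ∅ := Finset.card_eq_zero.1 h2
        subst h3
        obtain ⟨i⟩ := ‹Nonempty ι›
        refine ⟨1, N.one_mem, i, ?_⟩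
        rw [Finset.sum_empty, add_zero]
        exact Submodule.mem_sup_left hu
      · obtain ⟨i, rfl⟩ := Finset.card_eq_one.1 h2
        refine ⟨1, N.one_mem, i, ?_⟩
        rw [Finset.sum_singleton]
        exact Submodule.add_mem_sup hu (hx i (Finset.mem_singleton_self i))
    · push Not at h1 hk
      obtain ⟨i, hi, j, hj, hij⟩ := Finset.one_lt_card.1 h1
      -- drop a zero component
      have drop : ∀ a ∈ s, x a = 0 → ∃ n ∈ N, ∃ i, n (u + ∑ j ∈ s, x j) ∈ U ⊔ X i := by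
        intro a ha hxa
        obtain ⟨n, hn, c, hc⟩ := ih (s.erase a) u x (by rw [Finset.card_erase_of_mem ha]; omega) hu
          (fun b hb => hx b (Finset.mem_of_mem_erase hb))
        refine ⟨n, hn, c, ?_⟩
        rwa [Finset.sum_erase s hxa] at hc
      by_cases hxi : x i = 0
      · exact drop i hi hxi
      by_cases hxj : x j = 0
      · exact drop j hj hxj
      obtain ⟨n, hn, hl, hnx⟩ := hMg i j hij (x i) (hx i hi) (x j) (hx j hj) hxi hxj
      -- the new family
      let y : ι → V := fun c => if c = i then n (x i + x j) else x c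
      obtain ⟨m, hm, c, hc⟩ := ih (s.erase j) u y (by rw [Finset.card_erase_of_mem hj]; omega) hu (by
        intro b hb
        by_cases hbi : b = i
        · subst hbi
          simp only [y, if_true]
          exact hnx
        · simp only [y, if_neg hbi]
          exact hx b (Finset.mem_of_mem_erase hb))
      refine ⟨m * n, N.mul_mem hm hn, c, ?_⟩
      have hi' : i ∈ s.erase j := Finset.mem_erase.2 ⟨hij, hi⟩
      have e1 : ∑ b ∈ s, x b = x j + (x i + ∑ b ∈ (s.erase j).erase i, x b) := by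
        rw [← Finset.add_sum_erase s x hj, ← Finset.add_sum_erase (s.erase j) x hi']
      have e2 : ∑ b ∈ s.erase j, y b = n (x i + x j) + ∑ b ∈ (s.erase j).erase i, x b := by
        rw [← Finset.add_sum_erase (s.erase j) y hi']
        congr 1
        · simp only [y, if_true]
        · refine Finset.sum_congr rfl fun b hb => ?_
          simp only [y, if_neg (Finset.ne_of_mem_erase hb)]
      have e3 : n (∑ b ∈ (s.erase j).erase i, x b) = ∑ b ∈ (s.erase j).erase i, x b := by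
        rw [map_sum]
        refine Finset.sum_congr rfl fun b hb => ?_
        have hbi : b ≠ i := Finset.ne_of_mem_erase hb
        have hbj : b ≠ j := Finset.ne_of_mem_erase (Finset.mem_of_mem_erase hb)
        exact hl _ (hd.prp_X hbi hbj (hx b (Finset.mem_of_mem_erase (Finset.mem_of_mem_erase hb))))
      have e4 : n u = u := hl _ (hd.prp_U hu)
      have e5 : n (u + ∑ b ∈ s, x b) = u + ∑ b ∈ s.erase j, y b := by
        rw [e1, e2, map_add, map_add, map_add, e3, e4, map_add]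
        abel
      rw [LinearEquiv.mul_apply, e5]
      exact hc

/-- every vector can be moved by `N` into some `U ⊔ X i` -/
theorem orbit [Finite ι] [Nonempty ι] (hd : ODec Φ U X) (hMg : ∀ i j, i ≠ j → Mg Φ N (X i) (X j)) (v : V) :
    ∃ n ∈ N, ∃ i, n v ∈ U ⊔ X i := by
  classical
  have := Fintype.ofFinite ι
  have h1 : v ∈ U ⊔ ⨆ i, X i := by
    rw [hd.span]
    trivial
  obtain ⟨u, hu, w, hw, rfl⟩ := Submodule.mem_sup.1 h1
  have h2 : w ∈ ⨆ i ∈ (Finset.univ : Finset ι), X i := by simpa using hw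
  obtain ⟨x, hx⟩ := (Submodule.mem_iSup_finset_iff_exists_sum _ _).1 h2
  have := orbit_aux hd hMg _ Finset.univ u (fun i => (x i : V)) le_rfl hu (fun i _ => (x i).2)
  rwa [hx] at this

/-- the isometries fixing `v^⟂` pointwise -/
def Rv (Φ : Frm F V) (v : V) (g : V ≃ₗ[F] V) : Prop := g ∈ Φ.Iso ∧ ∀ x, Φ.B x v = 0 → g x = x

theorem Rv.conj {v : V} {g n : V ≃ₗ[F] V} (h : Rv Φ v g) (hn : n ∈ Φ.Iso) : Rv Φ (n v) (n * g * n⁻¹) := by
  refine ⟨Φ.Iso.mul_mem (Φ.Iso.mul_mem hn h.1) (Φ.Iso.inv_mem hn), fun x hx => ?_⟩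
  have h1 : ∀ y, n (n⁻¹ y) = y := fun y => n.apply_symm_apply y
  have h2 : Φ.B (n⁻¹ x) v = 0 := by rw [← hn.1, h1, hx]
  rw [LinearEquiv.mul_apply, LinearEquiv.mul_apply, h.2 _ h2, h1]

theorem Rv.mem {v : V} {g : V ≃ₗ[F] V} (h : Rv Φ v g) {W : Submodule F V} (hv : v ∈ W) (hW : Has1 Φ N W) : g ∈ N :=
  hW g h.1 fun x hx => h.2 x (hx v hv)

theorem Rv.of_conj {v : V} {g n : V ≃ₗ[F] V} (h : Rv Φ v g) (hn : n ∈ Φ.Iso) (hN : n ∈ N) {W : Submodule F V}
    (hv : n v ∈ W) (hW : Has1 Φ N W) : g ∈ N := by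
  have h1 := (h.conj hn).mem hv hW
  have h2 := N.mul_mem (N.mul_mem (N.inv_mem hN) h1) hN
  have h3 : n⁻¹ * (n * g * n⁻¹) * n = g := by group
  rwa [h3] at h2

/-- `N` contains every isometry which fixes a hyperplane `v^⟂` pointwise -/
theorem orbit_R [Finite ι] [Nonempty ι] (hd : ODec Φ U X) (hN : N ≤ Φ.Iso) (hN1 : ∀ i, Has1 Φ N (U ⊔ X i))
    (hMg : ∀ i j, i ≠ j → Mg Φ N (X i) (X j)) {v : V} {g : V ≃ₗ[F] V} (h : Rv Φ v g) : g ∈ N := by
  obtain ⟨n, hn, i, hi⟩ := orbit hd hMg v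
  exact h.of_conj (hN hn) hn hi (hN1 i)

end

end Cfsg.Agent.H900.Gen
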