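import Mathlib
import Cfsg.Agent.H900.Gen.Irr
import Cfsg.Agent.H900.Gen.Pair
import Cfsg.Agent.H900.Gen.Orbit

/-!
# S2187, classical rows: the enlarged group

`Dc Φ p A S U` : the decomposition of `V` under `A`.  `enl` : the enlarged elementary abelian group.
`orbit_main` : if all summands are `Big` and `N` contains the isometries living on `U ⊔ X`, then `N` contains every
isometry which fixes a hyperplane `v^⟂` pointwise.
-/

set_option autoImplicit false
set_option linter.unusedSectionVars false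

namespace Cfsg.Agent.H900.Gen

open Cfsg.Agent.H847.Bs QuadraticMap Cfsg.Agent.LieClassical.OrthCore Polynomial

variable {F V : Type*} [Field F] [AddCommGroup V] [Module F V] [Finite F] [FiniteDimensional F V]

/-! ### Minimal polynomials -/

/-- the minimal polynomial of an irreducible endomorphism is irreducible -/
theorem minpoly_irr {X : Submodule F V} {a : V ≃ₗ[F] V} (hX0 : X ≠ ⊥) (h : Inv a X)
    (hirr : ∀ Z ≤ X, Inv a Z → Z = ⊥ ∨ Z = X) : Irreducible (minpoly F (rs a h)) := by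
  have hint : IsIntegral F (rs a h) := Algebra.IsIntegral.isIntegral _
  have hne : Nontrivial X := (Submodule.nontrivial_iff_ne_bot).2 hX0
  -- a polynomial in `a` is zero or injective on `X`
  have key : ∀ g : F[X], aeval (rs a h) g = 0 ∨ ∀ x : X, aeval (rs a h) g x = 0 → x = 0 := by
    intro g
    let Z : Submodule F V := (LinearMap.ker (aeval (rs a h) g)).map X.subtype
    have hZ : Z ≤ X := by
      rintro _ ⟨x, -, rfl⟩
      exact x.2
    have hZi : Inv a Z := by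
      rintro _ ⟨x, hx, rfl⟩
      refine ⟨rs a h x, ?_, rfl⟩
      rw [SetLike.mem_coe, LinearMap.mem_ker] at hx ⊢
      have h1 : aeval (rs a h) g * rs a h = rs a h * aeval (rs a h) g := by
        have e1 : rs a h = aeval (rs a h) (Polynomial.X : F[X]) := (aeval_X _).symm
        nth_rw 2 [e1]
        nth_rw 3 [e1]
        rw [← map_mul, ← map_mul, mul_comm]
      have h2 := congrArg (fun T : Module.End F X => T x) h1
      change aeval (rs a h) g (rs a h x) = rs a h (aeval (rs a h) g x) at h2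
      rw [h2, hx, map_zero]
    rcases hirr Z hZ hZi with h1 | h1
    · right
      intro x hx
      have h2 : (x : V) ∈ Z := ⟨x, LinearMap.mem_ker.2 hx, rfl⟩
      rw [h1, Submodule.mem_bot] at h2
      exact Subtype.ext h2
    · left
      ext x
      have h2 : (x : V) ∈ Z := h1.symm ▸ x.2
      obtain ⟨y, hy, hyx⟩ := h2
      have h3 : y = x := Subtype.ext hyx
      rw [← h3, LinearMap.mem_ker.1 hy]
      rfl
  refine (irreducible_of_monic (minpoly.monic hint) (minpoly.ne_one F _)).2 fun f g hf hg he => ?_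
  have h1 : aeval (rs a h) f * aeval (rs a h) g = 0 := by
    rw [← map_mul, he, minpoly.aeval]
  rcases key f with h2 | h2
  · right
    have h3 : minpoly F (rs a h) ∣ f := minpoly.dvd F _ h2
    rw [← he] at h3
    have h4 : f * g ∣ f * 1 := by rwa [mul_one]
    have h5 := (mul_dvd_mul_iff_left hf.ne_zero).1 h4
    exact hg.isUnit_iff.1 (isUnit_of_dvd_one h5)
  · left
    have h3 : aeval (rs a h) g = 0 := by
      ext x
      have h4 := congrArg (fun T : Module.End F X => T x) h1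
      change aeval (rs a h) f (aeval (rs a h) g x) = 0 at h4
      rw [h2 _ h4]
      rfl
    have h5 : minpoly F (rs a h) ∣ g := minpoly.dvd F _ h3
    rw [← he] at h5
    have h6 : f * g ∣ 1 * g := by rwa [one_mul]
    have h7 := (mul_dvd_mul_iff_right hg.ne_zero).1 h6
    exact hf.isUnit_iff.1 (isUnit_of_dvd_one h7)

/-- a root of the minimal polynomial is a primitive `p`-th root of unity -/
theorem root_prim {X : Submodule F V} {a : V ≃ₗ[F] V} {p : ℕ} (hp : p.Prime) (h : Inv a X) (hap : a ^ p = 1)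
    (hirr : Irreducible (minpoly F (rs a h))) (hnt : ∃ x ∈ X, a x ≠ x) {Ω : Type*} [Field Ω] [Algebra F Ω] {z : Ω}
    (hz : aeval z (minpoly F (rs a h)) = 0) : IsPrimitiveRoot z p := by
  have hint : IsIntegral F (rs a h) := Algebra.IsIntegral.isIntegral _
  have h1 : aeval (rs a h) ((Polynomial.X : F[X]) ^ p - 1) = 0 := by
    rw [map_sub, map_pow, aeval_X, map_one]
    ext x
    have e1 : ∀ n : ℕ, (((rs a h) ^ n) x : V) = (a ^ n) x := by
      intro n
      induction n generalizing x with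
      | zero => rfl
      | succ n ih =>
        rw [pow_succ, pow_succ, Module.End.mul_apply, ih]
        rfl
    show (((rs a h) ^ p) x : V) - x = 0
    rw [e1, hap]
    exact sub_self _
  have h2 : z ^ p = 1 := by
    have h3 := minpoly.dvd F _ h1
    obtain ⟨c, hc⟩ := h3
    have h4 := congrArg (aeval z) hc
    rw [map_mul, hz, zero_mul, map_sub, map_pow, aeval_X, map_one, sub_eq_zero] at h4
    exact h4
  have h3 : z ≠ 1 := by
    rintro rfl
    have h4 : aeval (1 : F) (minpoly F (rs a h)) = 0 := by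
      have h5 := aeval_algebraMap_apply Ω (1 : F) (minpoly F (rs a h))
      rw [map_one, hz] at h5
      exact (map_eq_zero (algebraMap F Ω)).1 h5.symm
    have h5 : (Polynomial.X - C (1 : F)) = minpoly F (rs a h) := by
      have h6 : minpoly F (1 : F) = minpoly F (rs a h) :=
        (minpoly.eq_of_irreducible_of_monic hirr h4 (minpoly.monic hint)).symm
      rw [← h6]
      exact (minpoly.eq_X_sub_C' (1 : F)).symm
    obtain ⟨x, hx, hx1⟩ := hnt
    apply hx1
    have h6 := minpoly.aeval F (rs a h)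
    rw [← h5, map_sub, aeval_X, aeval_C, sub_eq_zero] at h6
    have h7 := congrArg (fun T : Module.End F X => ((T ⟨x, hx⟩ : X) : V)) h6
    change a x = _ at h7
    rw [h7, Module.algebraMap_end_apply, one_smul]
  have := Fact.mk hp
  have h4 : orderOf z = p := orderOf_eq_prime h2 h3
  rw [← h4]
  exact IsPrimitiveRoot.orderOf z

/-- matching the minimal polynomials on two irreducible modules -/
theorem exists_match {X Y : Submodule F V} {a c : V ≃ₗ[F] V} {p : ℕ} (hp : p.Prime) (hX : Inv a X) (hY : Inv c Y)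
    (hap : a ^ p = 1) (hcp : c ^ p = 1)
    (hf : Irreducible (minpoly F (rs a hX))) (hg : Irreducible (minpoly F (rs c hY)))
    (hnX : ∃ x ∈ X, a x ≠ x) (hnY : ∃ y ∈ Y, c y ≠ y) :
    ∃ k : ℕ, aeval ((rs c hY) ^ k) (minpoly F (rs a hX)) = 0 := by
  have hintX : IsIntegral F (rs a hX) := Algebra.IsIntegral.isIntegral _
  have hintY : IsIntegral F (rs c hY) := Algebra.IsIntegral.isIntegral _
  let Ω := AlgebraicClosure F
  obtain ⟨z, hz⟩ := IsAlgClosed.exists_aeval_eq_zero Ω (minpoly F (rs a hX)) hf.degree_pos.ne'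
  obtain ⟨w, hw⟩ := IsAlgClosed.exists_aeval_eq_zero Ω (minpoly F (rs c hY)) hg.degree_pos.ne'
  have hz1 := root_prim hp hX hap hf hnX hz
  have hw1 := root_prim hp hY hcp hg hnY hw
  have := NeZero.mk hp.ne_zero
  have := Fact.mk hp
  obtain ⟨k, -, hk⟩ := hw1.eq_pow_of_pow_eq_one hz1.pow_eq_one
  refine ⟨k, ?_⟩
  have h1 : aeval w (expand F k (minpoly F (rs a hX))) = 0 := by
    rw [expand_aeval, hk, hz]
  have h2 : minpoly F w = minpoly F (rs c hY) := (minpoly.eq_of_irreducible_of_monic hg hw (minpoly.monic hintY)).symm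
  have h3 := minpoly.dvd F w h1
  rw [h2] at h3
  obtain ⟨e, he⟩ := h3
  rw [← expand_aeval, he, map_mul, minpoly.aeval, zero_mul]

/-! ### The enlarged group -/

variable {Φ : Frm F V} {A : Subgroup (V ≃ₗ[F] V)} {p : ℕ} {S : Set (Submodule F V)} {U : Submodule F V}

/-- the isometries which act on every `X ∈ S` as an element of `A` and trivially on `U` -/
def enl (Φ : Frm F V) (A : Subgroup (V ≃ₗ[F] V)) (S : Set (Submodule F V)) (U : Submodule F V)
    (hS : ∀ X ∈ S, InvA A X) : Subgroup (V ≃ₗ[F] V) where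
  carrier := {g | g ∈ Φ.Iso ∧ (∀ X ∈ S, ∃ a ∈ A, ∀ x ∈ X, g x = a x) ∧ ∀ u ∈ U, g u = u}
  mul_mem' := by
    rintro g h ⟨hg1, hg2, hg3⟩ ⟨hh1, hh2, hh3⟩
    refine ⟨Φ.Iso.mul_mem hg1 hh1, fun X hX => ?_, fun u hu => ?_⟩
    · obtain ⟨a, ha, ha'⟩ := hg2 X hX
      obtain ⟨b, hb, hb'⟩ := hh2 X hX
      refine ⟨a * b, A.mul_mem ha hb, fun x hx => ?_⟩
      rw [LinearEquiv.mul_apply, LinearEquiv.mul_apply, hb' x hx, ha' _ (hS X hX b hb x hx)]
    · rw [LinearEquiv.mul_apply, hh3 u hu, hg3 u hu]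
  one_mem' := ⟨Φ.Iso.one_mem, fun X _ => ⟨1, A.one_mem, fun _ _ => rfl⟩, fun _ _ => rfl⟩
  inv_mem' := by
    rintro g ⟨hg1, hg2, hg3⟩
    refine ⟨Φ.Iso.inv_mem hg1, fun X hX => ?_, fun u hu => ?_⟩
    · obtain ⟨a, ha, ha'⟩ := hg2 X hX
      refine ⟨a⁻¹, A.inv_mem ha, fun x hx => ?_⟩
      have h1 := hS X hX _ (A.inv_mem ha) x hx
      have h2 : g (a⁻¹ x) = x := by
        rw [ha' _ h1]
        exact a.apply_symm_apply x
      calc g⁻¹ x = g⁻¹ (g (a⁻¹ x)) := by rw [h2]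
        _ = a⁻¹ x := g.symm_apply_apply _
    · calc g⁻¹ u = g⁻¹ (g u) := by rw [hg3 u hu]
        _ = u := g.symm_apply_apply _

theorem ext_of_dec (hd : ODec Φ U (fun X : S => (X : Submodule F V))) {g h : V ≃ₗ[F] V} (hU : ∀ u ∈ U, g u = h u)
    (hX : ∀ X ∈ S, ∀ x ∈ X, g x = h x) : g = h := by
  let E : Submodule F V := LinearMap.ker ((g : V →ₗ[F] V) - (h : V →ₗ[F] V))
  have hmem : ∀ v, v ∈ E ↔ g v = h v := by
    intro v
    rw [LinearMap.mem_ker, LinearMap.sub_apply, sub_eq_zero]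
    rfl
  have h1 : (⊤ : Submodule F V) ≤ E := by
    rw [← hd.span]
    refine sup_le (fun u hu => (hmem u).2 (hU u hu)) (iSup_le fun X x hx => (hmem x).2 (hX X X.2 x hx))
  ext v
  exact (hmem v).1 (h1 trivial)

theorem le_enl (hE : Ea Φ p A) (hS : ∀ X ∈ S, InvA A X) (hU : ∀ u ∈ U, ∀ a ∈ A, a u = u) : A ≤ enl Φ A S U hS :=
  fun a ha => ⟨hE.le ha, fun X _ => ⟨a, ha, fun _ _ => rfl⟩, fun u hu => hU u hu a ha⟩

theorem ea_enl (hE : Ea Φ p A) (hd : ODec Φ U (fun X : S => (X : Submodule F V))) (hS : ∀ X ∈ S, InvA A X) :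
    Ea Φ p (enl Φ A S U hS) := by
  refine ⟨fun g hg => hg.1, fun g hg h hh => ?_, fun g hg => ?_, hE.prime, hE.odd, hE.char⟩
  · refine ext_of_dec hd (fun u hu => ?_) fun X hX x hx => ?_
    · rw [LinearEquiv.mul_apply, LinearEquiv.mul_apply, hh.2.2 u hu, hg.2.2 u hu, hh.2.2 u hu]
    · obtain ⟨a, ha, ha'⟩ := hg.2.1 X hX
      obtain ⟨b, hb, hb'⟩ := hh.2.1 X hX
      rw [LinearEquiv.mul_apply, LinearEquiv.mul_apply, ha' x hx, hb' x hx, ha' _ (hS X hX b hb x hx),
        hb' _ (hS X hX a ha x hx)]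
      exact congrArg (fun g : V ≃ₗ[F] V => g x) (hE.comm a ha b hb)
  · refine ext_of_dec hd (fun u hu => pow_fix (hg.2.2 u hu) p) fun X hX x hx => ?_
    obtain ⟨a, ha, ha'⟩ := hg.2.1 X hX
    have h1 : ∀ n : ℕ, (g ^ n) x = (a ^ n) x := by
      intro n
      induction n with
      | zero => rfl
      | succ n ih =>
        rw [pow_succ', pow_succ', LinearEquiv.mul_apply, LinearEquiv.mul_apply, ih]
        exact ha' _ (hS X hX _ (A.pow_mem ha n) x hx)
    rw [h1, hE.pow a ha]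

/-- the element of the enlarged group acting as `a` on `X` and trivially on `X^⟂` -/
theorem exists_cut (hE : Ea Φ p A) (hd : ODec Φ U (fun X : S => (X : Submodule F V))) (hS : ∀ X ∈ S, InvA A X)
    {X : Submodule F V} (hX : X ∈ S) {a : V ≃ₗ[F] V} (ha : a ∈ A) :
    ∃ α ∈ enl Φ A S U hS, Loc Φ X α ∧ ∀ x ∈ X, α x = a x := by
  have hXn := hd.nd ⟨X, hX⟩
  have h1 : ∀ x, a (a⁻¹ x) = x := fun x => a.apply_symm_apply x
  have h2 : ∀ x, a⁻¹ (a x) = x := fun x => a.symm_apply_apply x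
  let r : X ≃ₗ[F] X := LinearEquiv.ofLinearMap (rs a (hS X hX a ha)) (rs a⁻¹ (hS X hX _ (A.inv_mem ha)))
    (by ext x; exact h1 x) (by ext x; exact h2 x)
  have hr : r ∈ (Φ.on X).Iso := ⟨fun x y => (hE.le ha).1 x y, fun x => (hE.le ha).2 x⟩
  have h3 : ∀ x ∈ X, ext hXn r x = a x := fun x hx => ext_apply_mem hXn r ⟨x, hx⟩
  refine ⟨ext hXn r, ⟨ext_mem_iso hXn hr, fun Y hY => ?_, fun u hu => ?_⟩, ext_loc hXn r, h3⟩
  · by_cases hXY : Y = X
    · subst hXY
      exact ⟨a, ha, h3⟩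
    · refine ⟨1, A.one_mem, fun y hy => ext_loc hXn r y fun x hx => ?_⟩
      exact hd.orth ⟨Y, hY⟩ ⟨X, hX⟩ (fun h => hXY (congrArg Subtype.val h)) y hy x hx
  · exact ext_loc hXn r u fun x hx => hd.orthU ⟨X, hX⟩ u hu x hx

/-- an isometry living on `W` commutes with the isometries which are trivial on `W` -/
theorem comm_of_loc (hN : Φ.Nd) {W : Submodule F V} (hW : Φ.NdOn W) {g h : V ≃ₗ[F] V} (hg : g ∈ Φ.Iso) (hgl : Loc Φ W g)
    (hh : h ∈ Φ.Iso) (hhW : ∀ w ∈ W, h w = w) : g * h = h * g := by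
  ext v
  obtain ⟨w, hw, y, hy, rfl⟩ := exists_dec hW v
  have h1 : Prp Φ W (h y) := by
    intro z hz
    have h2 := hh.1 y z
    rw [hhW z hz] at h2
    rw [h2]
    exact hy z hz
  rw [LinearEquiv.mul_apply, LinearEquiv.mul_apply, map_add, map_add, map_add, map_add, hhW w hw, hgl y hy, hgl _ h1,
    hhW _ (Loc.mem hW hN hg hgl hw)]

theorem ndOn_sup {X Y : Submodule F V} (hX : Φ.NdOn X) (hY : Φ.NdOn Y) (hXY : Φ.Orth X Y) : Φ.NdOn (X ⊔ Y) := by
  intro w hw h
  obtain ⟨x, hx, y, hy, rfl⟩ := Submodule.mem_sup.1 hw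
  have h1 : x = 0 := hX x hx fun z hz => by
    have h3 := h z (Submodule.mem_sup_left hz)
    rwa [Φ.add_left, (B_comm_zero Φ).1 (hXY z hz y hy), add_zero] at h3
  have h4 : y = 0 := hY y hy fun z hz => by
    have h3 := h z (Submodule.mem_sup_right hz)
    rwa [Φ.add_left, hXY x hx z hz, zero_add] at h3
  rw [h1, h4, add_zero]

/-- the elements of `D` living on `U ⊔ X` belong to `N` -/
theorem mem_of_loc (hΦ : Cl Φ) (hE : Ea Φ p A) (hd : ODec Φ U (fun X : S => (X : Submodule F V)))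
    (hS : ∀ X ∈ S, Gd Φ A X) {D N : Subgroup (V ≃ₗ[F] V)}
    (hN : NH Φ D (enl Φ A S U fun X hX => (hS X hX).inv) N) {X : Submodule F V} (hX : X ∈ S) {g : V ≃ₗ[F] V}
    (hg : g ∈ Φ.Iso) (hgD : g ∈ D) (hgl : Loc Φ (U ⊔ X) g) : g ∈ N := by
  set A' := enl Φ A S U fun X hX => (hS X hX).inv with hA'
  have hEA : Ea Φ p A' := ea_enl hE hd _
  obtain ⟨a, ha, hnt⟩ := (hS X hX).nt
  obtain ⟨α, hα, hαl, hαx⟩ := exists_cut (U := U) hE hd (fun X hX => (hS X hX).inv) hX ha
  let H : Subgroup (V ≃ₗ[F] V) :=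
    { carrier := {h | h ∈ A' ∧ ∀ x ∈ X, h x = x}
      mul_mem' := fun {g h} hg hh => ⟨A'.mul_mem hg.1 hh.1, fun x hx => by
        rw [LinearEquiv.mul_apply, hh.2 x hx, hg.2 x hx]⟩
      one_mem' := ⟨A'.one_mem, fun _ _ => rfl⟩
      inv_mem' := fun {g} hg => ⟨A'.inv_mem hg.1, fun x hx => by
        calc g⁻¹ x = g⁻¹ (g x) := by rw [hg.2 x hx]
          _ = x := g.symm_apply_apply _⟩ }
  refine hN.n2 α hα H (fun h hh => hh.1) (fun h hh => ?_) g hgD fun h hh => ?_
  · obtain ⟨c, hc, hc'⟩ := hh.2.1 X hX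
    obtain ⟨j, hj⟩ := (hS X hX).exists_pow hE ha hnt hc
    have h1 : ∀ n : ℕ, ∀ x ∈ X, (α ^ n) x = (a ^ n) x := by
      intro n
      induction n with
      | zero => intro x _; rfl
      | succ n ih =>
        intro x hx
        rw [pow_succ', pow_succ', LinearEquiv.mul_apply, LinearEquiv.mul_apply, ih x hx]
        exact hαx _ ((hS X hX).inv _ (A.pow_mem ha n) x hx)
    have h2 : h * (α ^ j)⁻¹ ∈ H := by
      refine ⟨A'.mul_mem hh (A'.inv_mem (A'.pow_mem hα j)), fun x hx => ?_⟩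
      have h3 : (α ^ j)⁻¹ x ∈ X := by
        have h4 : (α ^ j)⁻¹ = α ^ (j * (p - 1)) := by
          rw [inv_eq_iff_mul_eq_one, ← pow_add]
          have : j + j * (p - 1) = p * j := by
            have := hE.prime.one_lt
            obtain ⟨q, rfl⟩ := Nat.exists_eq_add_of_le' this.le
            rw [Nat.add_sub_cancel]
            ring
          rw [this, pow_mul, hEA.pow α hα, one_pow]
        rw [h4, h1 _ x hx]
        exact (hS X hX).inv _ (A.pow_mem ha _) x hx
      have h5 : (α ^ j) ((α ^ j)⁻¹ x) = x := (α ^ j).apply_symm_apply x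
      rw [LinearEquiv.mul_apply, hc' _ h3, hj _ h3, ← h1 _ _ h3, h5]
    have h6 : h = h * (α ^ j)⁻¹ * α ^ j := by rw [inv_mul_cancel_right]
    rw [h6]
    exact Subgroup.mul_mem_sup h2 (Subgroup.pow_mem _ (Subgroup.mem_zpowers α) j)
  · refine comm_of_loc hΦ.nd (ndOn_sup hd.ndU (hd.nd ⟨X, hX⟩) (hd.orthU ⟨X, hX⟩)) hg hgl hh.1.1 fun w hw => ?_
    obtain ⟨u, hu, x, hx, rfl⟩ := Submodule.mem_sup.1 hw
    rw [map_add, hh.1.2.2 u hu, hh.2 x hx]

theorem rs_pow {a : V ≃ₗ[F] V} {X : Submodule F V} (h : Inv a X) (n : ℕ) (x : X) : (((rs a h) ^ n) x : V) = (a ^ n) x := by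
  induction n generalizing x with
  | zero => rfl
  | succ n ih =>
    rw [pow_succ, pow_succ, Module.End.mul_apply, ih]
    rfl

theorem pow_eq_on {g a : V ≃ₗ[F] V} {X : Submodule F V} (hX : Inv a X) (h : ∀ x ∈ X, g x = a x) (n : ℕ) {x : V}
    (hx : x ∈ X) : (g ^ n) x = (a ^ n) x := by
  have h1 : ∀ n : ℕ, (a ^ n) x ∈ X ∧ (g ^ n) x = (a ^ n) x := by
    intro n
    induction n with
    | zero => exact ⟨hx, rfl⟩
    | succ n ih =>
      rw [pow_succ', pow_succ', LinearEquiv.mul_apply, LinearEquiv.mul_apply, ih.2]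
      exact ⟨hX _ ih.1, h _ ih.1⟩
  exact (h1 n).2

/-- **Merging two summands.** -/
theorem mg_pair' (hΦ : Cl Φ) (hE : Ea Φ p A) (hd : ODec Φ U (fun X : S => (X : Submodule F V)))
    (hS : ∀ X ∈ S, Gd Φ A X) {D N : Subgroup (V ≃ₗ[F] V)} (hD : ∀ g ∈ Φ.Iso, ∀ k ∈ Φ.Iso, g * k * g⁻¹ * k⁻¹ ∈ D)
    (hN : NH Φ D (enl Φ A S U fun X hX => (hS X hX).inv) N) {X Y : Submodule F V} (hX : X ∈ S) (hY : Y ∈ S) (hXY : X ≠ Y)
    (h1 : Has1 Φ N X) : (Big Φ X → Mg Φ N X Y) ∧ Mq Φ N X Y := by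
  set A' := enl Φ A S U fun X hX => (hS X hX).inv with hA'
  have hEA : Ea Φ p A' := ea_enl hE hd _
  obtain ⟨a, ha, hna⟩ := (hS X hX).nt
  obtain ⟨c, hc, hnc⟩ := (hS Y hY).nt
  obtain ⟨α, hα, hαl, hαx⟩ := exists_cut (U := U) hE hd (fun X hX => (hS X hX).inv) hX ha
  obtain ⟨γ, hγ, hγl, hγy⟩ := exists_cut (U := U) hE hd (fun X hX => (hS X hX).inv) hY hc
  have hXn := (hS X hX).nd
  have hYn := (hS Y hY).nd
  have hO : Φ.Orth X Y := hd.orth ⟨X, hX⟩ ⟨Y, hY⟩ fun h => hXY (congrArg Subtype.val h)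
  have hXa : Inv a X := (hS X hX).inv a ha
  have hYc : Inv c Y := (hS Y hY).inv c hc
  have hirrX : ∀ Z ≤ X, Inv a Z → Z = ⊥ ∨ Z = X := fun Z hZ hZi => (hS X hX).irr hE ha hna hZ hZi
  have hirrY : ∀ Z ≤ Y, Inv c Z → Z = ⊥ ∨ Z = Y := fun Z hZ hZi => (hS Y hY).irr hE hc hnc hZ hZi
  have hfX := minpoly_irr (hS X hX).ne hXa hirrX
  have hfY := minpoly_irr (hS Y hY).ne hYc hirrY
  obtain ⟨k, hk⟩ := exists_match hE.prime hXa hYc (hE.pow a ha) (hE.pow c hc) hfX hfY hna hnc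
  -- the element `b`
  set b : V ≃ₗ[F] V := α * γ ^ k with hb
  have hbA : b ∈ A' := A'.mul_mem hα (A'.pow_mem hγ k)
  have hαY : ∀ y ∈ Y, α y = y := fun y hy => hαl y fun x hx => (B_comm_zero Φ).1 (hO x hx y hy)
  have hγX : ∀ x ∈ X, γ x = x := fun x hx => hγl x fun y hy => hO x hx y hy
  have hbX : ∀ x ∈ X, b x = a x := by
    intro x hx
    rw [hb, LinearEquiv.mul_apply, pow_fix (hγX x hx) k, hαx x hx]
  have hbY : ∀ y ∈ Y, b y = (c ^ k) y := by
    intro y hy
    have h2 : (γ ^ k) y = (c ^ k) y := pow_eq_on hYc hγy k hy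
    have h3 : (c ^ k) y ∈ Y := (hS Y hY).inv _ (A.pow_mem hc k) y hy
    rw [hb, LinearEquiv.mul_apply, h2, hαY _ h3]
  have hbXi : Inv b X := fun x hx => by rw [hbX x hx]; exact hXa x hx
  have hbYi : Inv b Y := fun y hy => by rw [hbY y hy]; exact (hS Y hY).inv _ (A.pow_mem hc k) y hy
  have red : ∀ {P R T : Prop}, P ∧ R ∧ T → P ∧ R := fun h => ⟨h.1, h.2.1⟩
  refine red (mg_of' hΦ hXn hYn hO hbA.1 hbXi hbYi hfX ?_ ?_ ?_ (hS X hX).ne ?_ h1 ?_)
  · intro x hx
    have e1 : rs b hbXi = rs a hXa := LinearMap.ext fun x => Subtype.ext (hbX x x.2)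
    have e2 := aeval_rs b hbXi (minpoly F (rs a hXa)) ⟨x, hx⟩
    rw [e1, minpoly.aeval] at e2
    exact e2.symm
  · intro y hy
    have e1 : rs b hbYi = (rs c hYc) ^ k := LinearMap.ext fun y => Subtype.ext (by rw [rs_apply, rs_pow, hbY y y.2])
    have e2 := aeval_rs b hbYi (minpoly F (rs a hXa)) ⟨y, hy⟩
    rw [e1, hk] at e2
    exact e2.symm
  · intro Z hZ hZi
    exact hirrX Z hZ fun z hz => by rw [← hbX z (hZ hz)]; exact hZi z hz
  · by_contra hcon
    push Not at hcon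
    obtain ⟨x, hx, hx1⟩ := hna
    have h2 := hcon x hx
    rw [hbX x hx, hbX _ (hXa x hx)] at h2
    have h3 : (a ^ 2) x = x := by
      rw [pow_two]
      exact h2
    have h4 : ¬ p ∣ 2 := by
      intro h
      have h5 := (Nat.prime_dvd_prime_iff_eq hE.prime Nat.prime_two).1 h
      exact hE.odd h5
    exact hx1 (fix_of_pow hE.prime (hE.pow a ha) h4 h3)
  · -- commutators
    intro g hg l hl hgb hlb hgl hll
    have hWn : Φ.NdOn (X ⊔ Y) := ndOn_sup hXn hYn hO
    have hbW : ∀ n : ℕ, ∀ w ∈ X ⊔ Y, (b ^ n) w ∈ X ⊔ Y := by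
      have hbi : ∀ w ∈ X ⊔ Y, b w ∈ X ⊔ Y := by
        intro w hw
        obtain ⟨x, hx, y, hy, rfl⟩ := Submodule.mem_sup.1 hw
        rw [map_add]
        exact Submodule.add_mem_sup (hbXi x hx) (hbYi y hy)
      intro n
      induction n with
      | zero => intro w hw; exact hw
      | succ n ih =>
        intro w hw
        rw [pow_succ', LinearEquiv.mul_apply]
        exact hbi _ (ih w hw)
    have hbp : b ^ p = 1 := hEA.pow b hbA
    have hbinv : ∀ n : ℕ, b ^ n * b ^ (n * (p - 1)) = 1 := by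
      intro n
      rw [← pow_add]
      have : n + n * (p - 1) = p * n := by
        have := hE.prime.one_lt
        obtain ⟨q, rfl⟩ := Nat.exists_eq_add_of_le' this.le
        rw [Nat.add_sub_cancel]
        ring
      rw [this, pow_mul, hbp, one_pow]
    let H : Subgroup (V ≃ₗ[F] V) :=
      { carrier := {h | h ∈ A' ∧ ∃ n : ℕ, ∀ w ∈ X ⊔ Y, h w = (b ^ n) w}
        mul_mem' := by
          rintro g h ⟨hg, n, hn⟩ ⟨hh, m, hm⟩
          refine ⟨A'.mul_mem hg hh, n + m, fun w hw => ?_⟩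
          rw [LinearEquiv.mul_apply, hm w hw, hn _ (hbW m w hw), pow_add]
          rfl
        one_mem' := ⟨A'.one_mem, 0, fun _ _ => rfl⟩
        inv_mem' := by
          rintro g ⟨hg, n, hn⟩
          refine ⟨A'.inv_mem hg, n * (p - 1), fun w hw => ?_⟩
          have h2 : g ((b ^ (n * (p - 1))) w) = w := by
            rw [hn _ (hbW _ w hw)]
            exact congrArg (fun g : V ≃ₗ[F] V => g w) (hbinv n)
          calc g⁻¹ w = g⁻¹ (g ((b ^ (n * (p - 1))) w)) := by rw [h2]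
            _ = _ := g.symm_apply_apply _ }
    have hcomm : ∀ g ∈ Φ.Iso, g * b = b * g → Loc Φ (X ⊔ Y) g → ∀ h ∈ H, g * h = h * g := by
      rintro g hg hgb hgl h ⟨hh, n, hn⟩
      ext v
      obtain ⟨w, hw, y, hy, rfl⟩ := exists_dec hWn v
      have h2 : Prp Φ (X ⊔ Y) (h y) := by
        intro z hz
        have h3 : z = h ((h⁻¹ : V ≃ₗ[F] V) z) := (h.apply_symm_apply z).symm
        have h4 : (h⁻¹ : V ≃ₗ[F] V) z ∈ X ⊔ Y := by
          obtain ⟨x', hx', y', hy', rfl⟩ := Submodule.mem_sup.1 hz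
          rw [map_add]
          have hh' := A'.inv_mem hh
          obtain ⟨a₁, ha₁, ha₁'⟩ := hh'.2.1 X hX
          obtain ⟨a₂, ha₂, ha₂'⟩ := hh'.2.1 Y hY
          rw [ha₁' x' hx', ha₂' y' hy']
          exact Submodule.add_mem_sup ((hS X hX).inv _ ha₁ x' hx') ((hS Y hY).inv _ ha₂ y' hy')
        rw [h3, hh.1.1]
        exact hy _ h4
      have h3 : g ((b ^ n) w) = (b ^ n) (g w) := by
        have h4 : g * b ^ n = b ^ n * g := (show Commute g b from hgb).pow_right n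
        exact congrArg (fun g : V ≃ₗ[F] V => g w) h4
      rw [LinearEquiv.mul_apply, LinearEquiv.mul_apply, map_add, map_add, map_add, map_add, hgl y hy, hgl _ h2,
        hn w hw, hn _ (Loc.mem hWn hΦ.nd hg hgl hw), h3]
    refine hN.n2 γ hγ H (fun h hh => hh.1) (fun h hh => ?_) _ (hD g hg l hl) fun h hh => ?_
    · -- generation
      obtain ⟨d, hd', hd''⟩ := hh.2.1 X hX
      obtain ⟨e, he', he''⟩ := hh.2.1 Y hY
      obtain ⟨t, ht⟩ := (hS X hX).exists_pow hE ha hna hd'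
      obtain ⟨s, hs⟩ := (hS Y hY).exists_pow hE hc hnc he'
      let m := k * t + s * (p - 1)
      have h2 : h * γ ^ m ∈ H := by
        refine ⟨A'.mul_mem hh (A'.pow_mem hγ m), t, fun w hw => ?_⟩
        obtain ⟨x', hx', y', hy', rfl⟩ := Submodule.mem_sup.1 hw
        have e1 : (h * γ ^ m) x' = (b ^ t) x' := by
          rw [LinearEquiv.mul_apply, pow_fix (hγX x' hx') m, hd'' x' hx', ht x' hx', pow_eq_on hXa hbX t hx']
        have e2 : (h * γ ^ m) y' = (b ^ t) y' := by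
          have h3 : (c ^ m) y' ∈ Y := (hS Y hY).inv _ (A.pow_mem hc m) y' hy'
          have h4 : (b ^ t) y' = ((c ^ k) ^ t) y' :=
            pow_eq_on ((hS Y hY).inv _ (A.pow_mem hc k)) hbY t hy'
          have h5 : c ^ s * c ^ m = (c ^ k) ^ t := by
            rw [← pow_add, ← pow_mul]
            have h6 : s + m = p * s + k * t := by
              have := hE.prime.one_lt
              obtain ⟨q, rfl⟩ := Nat.exists_eq_add_of_le' this.le
              simp only [m, Nat.add_sub_cancel]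
              ring
            rw [h6, pow_add, pow_mul, hE.pow c hc, one_pow, one_mul]
          rw [LinearEquiv.mul_apply, pow_eq_on hYc hγy m hy', he'' _ h3, hs _ h3, h4, ← h5]
          rfl
        rw [map_add, map_add, e1, e2]
      have h6 : h = h * γ ^ m * (γ ^ m)⁻¹ := by rw [mul_inv_cancel_right]
      rw [h6]
      exact Subgroup.mul_mem_sup h2 (Subgroup.inv_mem _ (Subgroup.pow_mem _ (Subgroup.mem_zpowers γ) m))
    · have c1 : Commute g h := hcomm g hg hgb hgl h hh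
      have c2 : Commute l h := hcomm l hl hlb hll h hh
      exact ((c1.mul_left c2).mul_left c1.inv_left).mul_left c2.inv_left

theorem mg_pair (hΦ : Cl Φ) (hE : Ea Φ p A) (hd : ODec Φ U (fun X : S => (X : Submodule F V)))
    (hS : ∀ X ∈ S, Gd Φ A X) {D N : Subgroup (V ≃ₗ[F] V)} (hD : ∀ g ∈ Φ.Iso, ∀ k ∈ Φ.Iso, g * k * g⁻¹ * k⁻¹ ∈ D)
    (hN : NH Φ D (enl Φ A S U fun X hX => (hS X hX).inv) N) {X Y : Submodule F V} (hX : X ∈ S) (hY : Y ∈ S) (hXY : X ≠ Y)
    (hbig : Big Φ X) (h1 : Has1 Φ N X) : Mg Φ N X Y :=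
  (mg_pair' hΦ hE hd hS hD hN hX hY hXY h1).1 hbig

/-- **The main orbit theorem.** -/
theorem orbit_main (hΦ : Cl Φ) (hE : Ea Φ p A) (hd : ODec Φ U (fun X : S => (X : Submodule F V)))
    (hS : ∀ X ∈ S, Gd Φ A X) (hne : S.Nonempty) (hbig : ∀ X ∈ S, Big Φ X) {D N : Subgroup (V ≃ₗ[F] V)}
    (hD : ∀ g ∈ Φ.Iso, ∀ k ∈ Φ.Iso, g * k * g⁻¹ * k⁻¹ ∈ D)
    (hN : NH Φ D (enl Φ A S U fun X hX => (hS X hX).inv) N) (h1 : ∀ X ∈ S, Has1 Φ N (U ⊔ X)) {v : V} {g : V ≃ₗ[F] V}
    (h : Rv Φ v g) : g ∈ N := by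
  have hfin : Finite V := Module.finite_of_finite F
  have : Finite (Submodule F V) := Finite.of_injective (fun X : Submodule F V => (X : Set V)) SetLike.coe_injective
  have : Finite S := inferInstance
  have : Nonempty S := hne.to_subtype
  refine orbit_R hd hN.le (fun X => h1 X X.2) (fun X Y hXY => ?_) h
  refine mg_pair hΦ hE hd hS hD hN X.2 Y.2 (fun h => hXY (Subtype.ext h)) (hbig X X.2) ?_
  intro g hg hgl
  exact h1 X X.2 g hg fun x hx => hgl x fun w hw => hx w (Submodule.mem_sup_right hw)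

end Cfsg.Agent.H900.Gen
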