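import Mathlib
import Cfsg.Agent.H900.Gen.Enl

/-!
# S2187, classical rows: the isometries living on a summand belong to `N`

`irr_of_ord` : every nontrivial isometry of order `p` of a summand `X` is irreducible on `X`;
`has1_of_nrm` : by the Frattini argument the group `N` contains all isometries living on `X`.
-/

set_option autoImplicit false
set_option linter.unusedSectionVars false

namespace Cfsg.Agent.H900.Gen

open Cfsg.Agent.H847.Bs QuadraticMap Cfsg.Agent.LieClassical.OrthCore Polynomial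

variable {F V : Type*} [Field F] [AddCommGroup V] [Module F V] [Finite F] [FiniteDimensional F V]
variable {Φ : Frm F V} {A : Subgroup (V ≃ₗ[F] V)} {p : ℕ} {X : Submodule F V}

/-- the dimension of an irreducible module is at most the degree of the minimal polynomial -/
theorem finrank_le_natDegree {a : V ≃ₗ[F] V} (h : Inv a X)
    (hirr : ∀ Z ≤ X, Inv a Z → Z = ⊥ ∨ Z = X) (hX0 : X ≠ ⊥) :
    Module.finrank F X ≤ (minpoly F (rs a h)).natDegree := by
  have hint : IsIntegral F (rs a h) := Algebra.IsIntegral.isIntegral _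
  have hmon := minpoly.monic hint
  obtain ⟨x, hx, hx0⟩ := (Submodule.ne_bot_iff _).1 hX0
  let x' : X := ⟨x, hx⟩
  let Z : Submodule F V :=
    { carrier := {v | ∃ g : F[X], ((aeval (rs a h) g x' : X) : V) = v}
      add_mem' := by
        rintro _ _ ⟨g, rfl⟩ ⟨k, rfl⟩
        exact ⟨g + k, by rw [map_add]; rfl⟩
      zero_mem' := ⟨0, by rw [map_zero]; rfl⟩
      smul_mem' := by
        rintro c _ ⟨g, rfl⟩
        exact ⟨c • g, by rw [map_smul]; rfl⟩ }
  have hZX : Z ≤ X := by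
    rintro _ ⟨g, rfl⟩
    exact Subtype.mem _
  have hZi : Inv a Z := by
    rintro _ ⟨g, rfl⟩
    refine ⟨Polynomial.X * g, ?_⟩
    rw [map_mul, aeval_X, Module.End.mul_apply]
    rfl
  have hZ : Z = X := by
    rcases hirr Z hZX hZi with h1 | h1
    · exfalso
      have h2 : x ∈ Z := ⟨1, by rw [map_one]; rfl⟩
      rw [h1, Submodule.mem_bot] at h2
      exact hx0 h2
    · exact h1
  let n := (minpoly F (rs a h)).natDegree
  let φ : degreeLT F n →ₗ[F] X :=
    { toFun := fun g => aeval (rs a h) (g : F[X]) x'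
      map_add' := fun g k => by rw [Submodule.coe_add, map_add]; rfl
      map_smul' := fun c g => by rw [Submodule.coe_smul, map_smul]; rfl }
  have hφ : Function.Surjective φ := by
    intro y
    have h1 : (y : V) ∈ Z := hZ.symm ▸ y.2
    obtain ⟨g, hg⟩ := h1
    have h2 : g %ₘ minpoly F (rs a h) ∈ degreeLT F n := by
      rw [mem_degreeLT]
      refine (degree_modByMonic_lt g hmon).trans_le ?_
      exact degree_le_natDegree
    refine ⟨⟨_, h2⟩, ?_⟩
    apply Subtype.ext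
    rw [← hg]
    have h3 := modByMonic_add_div g (minpoly F (rs a h))
    have h4 : aeval (rs a h) g = aeval (rs a h) (g %ₘ minpoly F (rs a h)) := by
      conv_lhs => rw [← h3]
      rw [map_add, map_mul, minpoly.aeval, zero_mul, add_zero]
    show ((aeval (rs a h) (g %ₘ minpoly F (rs a h)) x' : X) : V) = _
    rw [h4]
  have h1 := LinearMap.finrank_le_finrank_of_surjective hφ
  rwa [(degreeLTEquiv F n).finrank_eq, Module.finrank_fin_fun] at h1

theorem natDegree_minpoly_le (T : Module.End F X) : (minpoly F T).natDegree ≤ Module.finrank F X := by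
  have h2 := Polynomial.natDegree_le_of_dvd (LinearMap.minpoly_dvd_charpoly T) T.charpoly_monic.ne_zero
  rwa [LinearMap.charpoly_natDegree] at h2

/-- the degrees of the irreducible modules of elements of order `p` are equal -/
theorem finrank_le_of_match {Y : Submodule F V} {a c : V ≃ₗ[F] V} (hp : p.Prime) (hXi : Inv a X) (hY : Inv c Y)
    (hX0 : X ≠ ⊥) (hY0 : Y ≠ ⊥) (hap : a ^ p = 1) (hcp : c ^ p = 1)
    (hirrX : ∀ Z ≤ X, Inv a Z → Z = ⊥ ∨ Z = X) (hirrY : ∀ Z ≤ Y, Inv c Z → Z = ⊥ ∨ Z = Y)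
    (hnX : ∃ x ∈ X, a x ≠ x) (hnY : ∃ y ∈ Y, c y ≠ y) : Module.finrank F X ≤ Module.finrank F Y := by
  have hf := minpoly_irr hX0 hXi hirrX
  have hg := minpoly_irr hY0 hY hirrY
  have hint : IsIntegral F (rs a hXi) := Algebra.IsIntegral.isIntegral _
  have hne : Nontrivial Y := (Submodule.nontrivial_iff_ne_bot).2 hY0
  obtain ⟨k, hk⟩ := exists_match hp hXi hY hap hcp hf hg hnX hnY
  have h1 := minpoly.eq_of_irreducible_of_monic hf hk (minpoly.monic hint)
  have h2 := finrank_le_natDegree hXi hirrX hX0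
  rw [h1] at h2
  exact h2.trans (natDegree_minpoly_le _)

/-- a nontrivial isometry of order `p` of a summand is irreducible on it -/
theorem irr_of_ord (hE : Ea Φ p A) (hX : Gd Φ A X) {z : V ≃ₗ[F] V} (hzX : Inv z X) (hzp : z ^ p = 1)
    (hnt : ∃ x ∈ X, z x ≠ x) : ∀ Z ≤ X, Inv z Z → Z = ⊥ ∨ Z = X := by
  obtain ⟨a, ha, hna⟩ := hX.nt
  have hpow : ∀ (W : Submodule F V), Inv z W → InvA (Subgroup.zpowers z) W := by
    intro W hW c hc w hw
    have h1 : ∀ n : ℕ, (z ^ n) w ∈ W := by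
      intro n
      induction n with
      | zero => exact hw
      | succ n ih =>
        rw [pow_succ', LinearEquiv.mul_apply]
        exact hW _ ih
    have hfin : IsOfFinOrder z := isOfFinOrder_iff_pow_eq_one.2 ⟨p, hE.prime.pos, hzp⟩
    obtain ⟨n, rfl⟩ := hfin.mem_powers_iff_mem_zpowers.2 hc
    exact h1 n
  let R : Submodule F V := X.map ((z : V →ₗ[F] V) - LinearMap.id)
  have hRX : R ≤ X := by
    rintro _ ⟨x, hx, rfl⟩
    exact X.sub_mem (hzX x hx) hx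
  have hRi : Inv z R := by
    rintro _ ⟨x, hx, rfl⟩
    refine ⟨z x, hzX x hx, ?_⟩
    show z (z x) - z x = z (z x - x)
    rw [map_sub]
  have hR0 : R ≠ ⊥ := by
    obtain ⟨x, hx, hx1⟩ := hnt
    intro h
    have h1 : z x - x ∈ R := ⟨x, hx, rfl⟩
    rw [h, Submodule.mem_bot, sub_eq_zero] at h1
    exact hx1 h1
  obtain ⟨Y, hYR, hYi, hY0, hYmin⟩ := exists_minimal (hpow R hRi) hR0
  have hYz : Inv z Y := hYi z (Subgroup.mem_zpowers z)
  have hYX : Y ≤ X := hYR.trans hRX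
  have hnY : ∃ y ∈ Y, z y ≠ y := by
    by_contra hcon
    push Not at hcon
    obtain ⟨y, hy, hy0⟩ := (Submodule.ne_bot_iff _).1 hY0
    obtain ⟨x, hx, hxy⟩ := hYR hy
    have h1 : trA p z y = (p : F) • y := trA_fix (hcon y hy)
    have h2 : trA p z y = 0 := by
      rw [← hxy]
      exact trA_sub z hzp x
    rw [h2] at h1
    rcases smul_eq_zero.1 h1.symm with h3 | h3
    · exact hE.char h3
    · exact hy0 h3
  have h1 := finrank_le_of_match hE.prime (hX.inv a ha) hYz hX.ne hY0 (hE.pow a ha) hzp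
    (fun Z hZ hZi => hX.irr hE ha hna hZ hZi) (fun Z hZ hZi => hYmin Z hZ (hpow Z hZi)) hna hnY
  have h2 : Y = X := Submodule.eq_of_le_of_finrank_le hYX h1
  intro Z hZ hZi
  rw [← h2] at hZ ⊢
  exact hYmin Z hZ (hpow Z hZi)

/-- a set of commuting elements of order `p` -/
theorem ea_closure (hE : Ea Φ p A) {K : Set (V ≃ₗ[F] V)} (h1 : ∀ g ∈ K, g ∈ Φ.Iso)
    (hc : ∀ g ∈ K, ∀ h ∈ K, g * h = h * g) (hpow : ∀ g ∈ K, g ^ p = 1) : Ea Φ p (Subgroup.closure K) := by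
  have hcomm : ∀ a ∈ Subgroup.closure K, ∀ b ∈ Subgroup.closure K, a * b = b * a := by
    intro a ha b hb
    induction ha, hb using Subgroup.closure_induction₂ with
    | mem x y hx hy => exact hc x hx y hy
    | one_left x hx => rw [one_mul, mul_one]
    | one_right x hx => rw [one_mul, mul_one]
    | mul_left x y z hx hy hz h1 h2 => rw [mul_assoc, h2, ← mul_assoc, h1, mul_assoc]
    | mul_right x y z hx hy hz h1 h2 => rw [← mul_assoc, h1, mul_assoc, h2, mul_assoc]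
    | inv_left x y hx hy h => exact ((show Commute x y from h).inv_left).eq
    | inv_right x y hx hy h => exact ((show Commute x y from h).inv_right).eq
  refine ⟨(Subgroup.closure_le _).2 h1, hcomm, fun a ha => ?_, hE.prime, hE.odd, hE.char⟩
  induction ha using Subgroup.closure_induction with
  | mem x hx => exact hpow x hx
  | one => exact one_pow p
  | mul x y hx hy h1 h2 =>
    have h3 : Commute x y := hcomm x hx y hy
    rw [h3.mul_pow, h1, h2, mul_one]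
  | inv x hx h => rw [inv_pow, h, inv_one]

/-- commuting elements of order `p` living on a summand -/
theorem pow_of_comm (hΦ : Cl Φ) (hE : Ea Φ p A) (hX : Gd Φ A X) {z c : V ≃ₗ[F] V} (hz : z ∈ Φ.Iso) (hc : c ∈ Φ.Iso)
    (hzl : Loc Φ X z) (hcl : Loc Φ X c) (hzp : z ^ p = 1) (hcp : c ^ p = 1) (hcomm : z * c = c * z) (hz1 : z ≠ 1) :
    ∃ j : ℕ, c = z ^ j := by
  have hzX : Inv z X := fun x hx => Loc.mem hX.nd hΦ.nd hz hzl hx
  have hcX : Inv c X := fun x hx => Loc.mem hX.nd hΦ.nd hc hcl hx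
  have hnt : ∃ x ∈ X, z x ≠ x := by
    by_contra hcon
    push Not at hcon
    apply hz1
    ext v
    obtain ⟨w, hw, y, hy, rfl⟩ := exists_dec hX.nd v
    rw [map_add, hcon w hw, hzl y hy]
    rfl
  have hirr := irr_of_ord hE hX hzX hzp hnt
  have hEA : Ea Φ p (Subgroup.closure ({z, c} : Set (V ≃ₗ[F] V))) := by
    refine ea_closure hE ?_ ?_ ?_
    · rintro g (rfl | rfl)
      · exact hz
      · exact hc
    · rintro g (rfl | rfl) h (rfl | rfl)
      · rfl
      · exact hcomm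
      · exact hcomm.symm
      · rfl
    · rintro g (rfl | rfl)
      · exact hzp
      · exact hcp
  have hzm : z ∈ Subgroup.closure ({z, c} : Set (V ≃ₗ[F] V)) := Subgroup.subset_closure (Or.inl rfl)
  have hcm : c ∈ Subgroup.closure ({z, c} : Set (V ≃ₗ[F] V)) := Subgroup.subset_closure (Or.inr rfl)
  have hinv : InvA (Subgroup.closure ({z, c} : Set (V ≃ₗ[F] V))) X := by
    intro g hg
    have h1 : ∀ g ∈ Subgroup.closure ({z, c} : Set (V ≃ₗ[F] V)), g ∈ Φ.Iso ∧ Loc Φ X g := by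
      intro g hg
      induction hg using Subgroup.closure_induction with
      | mem x hx =>
        rcases hx with rfl | rfl
        · exact ⟨hz, hzl⟩
        · exact ⟨hc, hcl⟩
      | one => exact ⟨Φ.Iso.one_mem, fun _ _ => rfl⟩
      | mul x y hx hy h1 h2 =>
        refine ⟨Φ.Iso.mul_mem h1.1 h2.1, fun v hv => ?_⟩
        rw [LinearEquiv.mul_apply, h2.2 v hv, h1.2 v hv]
      | inv x hx h =>
        refine ⟨Φ.Iso.inv_mem h.1, fun v hv => ?_⟩
        calc x⁻¹ v = x⁻¹ (x v) := by rw [h.2 v hv]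
          _ = v := x.symm_apply_apply _
    exact fun x hx => Loc.mem hX.nd hΦ.nd (h1 g hg).1 (h1 g hg).2 hx
  have hG : Gd Φ (Subgroup.closure ({z, c} : Set (V ≃ₗ[F] V))) X :=
    ⟨hinv, hX.ne, fun Y hY hYi => hirr Y hY (hYi z hzm), hX.nd, z, hzm, hnt⟩
  obtain ⟨j, hj⟩ := hG.exists_pow hEA hzm hnt hcm
  refine ⟨j, ?_⟩
  ext v
  obtain ⟨w, hw, y, hy, rfl⟩ := exists_dec hX.nd v
  rw [map_add, map_add, hj w hw, hcl y hy, pow_fix (hzl y hy) j]

/-- the isometries living on `X` -/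
def locG (Φ : Frm F V) (X : Submodule F V) : Subgroup (V ≃ₗ[F] V) where
  carrier := {g | g ∈ Φ.Iso ∧ Loc Φ X g}
  mul_mem' := fun {x y} h1 h2 => ⟨Φ.Iso.mul_mem h1.1 h2.1, fun v hv => by
    rw [LinearEquiv.mul_apply, h2.2 v hv, h1.2 v hv]⟩
  one_mem' := ⟨Φ.Iso.one_mem, fun _ _ => rfl⟩
  inv_mem' := fun {x} h => ⟨Φ.Iso.inv_mem h.1, fun v hv => by
    calc x⁻¹ v = x⁻¹ (x v) := by rw [h.2 v hv]
      _ = v := x.symm_apply_apply _⟩

theorem mem_locG {g : V ≃ₗ[F] V} : g ∈ locG Φ X ↔ g ∈ Φ.Iso ∧ Loc Φ X g := Iff.rfl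

variable {S : Set (Submodule F V)} {U : Submodule F V}

theorem Loc.mono {W : Submodule F V} (h : X ≤ W) {g : V ≃ₗ[F] V} (hg : Loc Φ X g) : Loc Φ W g :=
  fun x hx => hg x fun w hw => hx w (h hw)

/-- the normalizer of `⟨α⟩` in the group of isometries living on `X` belongs to `N` -/
theorem nrm_mem (hΦ : Cl Φ) (hE : Ea Φ p A) (hd : ODec Φ U (fun X : S => (X : Submodule F V)))
    (hS : ∀ X ∈ S, Gd Φ A X) {D N : Subgroup (V ≃ₗ[F] V)}
    (hN : NH Φ D (enl Φ A S U fun X hX => (hS X hX).inv) N) (hX : X ∈ S) {a α : V ≃ₗ[F] V} (ha : a ∈ A)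
    (hnt : ∃ x ∈ X, a x ≠ x) (hαl : Loc Φ X α) (hαx : ∀ x ∈ X, α x = a x) {g : V ≃ₗ[F] V} (hg : g ∈ Φ.Iso)
    (hgl : Loc Φ X g) {i : ℕ} (hi : g * α * g⁻¹ = α ^ i) : g ∈ N := by
  have hXn := hd.nd ⟨X, hX⟩
  have hgi : ∀ x, g (g⁻¹ x) = x := fun x => g.apply_symm_apply x
  have hgi' : g⁻¹ ∈ locG Φ X := (locG Φ X).inv_mem ⟨hg, hgl⟩
  refine hN.n1 g hg fun c hc => ⟨Φ.Iso.mul_mem (Φ.Iso.mul_mem hg hc.1) (Φ.Iso.inv_mem hg), fun Y hY => ?_, fun u hu => ?_⟩
  · by_cases hXY : Y = X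
    · subst hXY
      obtain ⟨c₀, hc₀, hcx⟩ := hc.2.1 Y hY
      obtain ⟨j, hj⟩ := (hS Y hY).exists_pow hE ha hnt hc₀
      have hai : Inv a Y := (hS Y hY).inv a ha
      have h1 : ∀ n : ℕ, ∀ y ∈ Y, (α ^ n) y = (a ^ n) y := fun n y hy => pow_eq_on hai hαx n hy
      have h2 : g * α ^ j * g⁻¹ = α ^ (i * j) := by
        rw [pow_mul, ← hi, conj_pow]
      refine ⟨a ^ (i * j), A.pow_mem ha _, fun y hy => ?_⟩
      have h3 : g⁻¹ y ∈ Y := Loc.mem hXn hΦ.nd hgi'.1 hgi'.2 hy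
      rw [LinearEquiv.mul_apply, LinearEquiv.mul_apply, hcx _ h3, hj _ h3, ← h1 _ _ h3, ← h1 _ _ hy, ← h2]
      rfl
    · obtain ⟨c₀, hc₀, hcy⟩ := hc.2.1 Y hY
      have hO := hd.orth ⟨Y, hY⟩ ⟨X, hX⟩ (fun h => hXY (congrArg Subtype.val h))
      refine ⟨c₀, hc₀, fun y hy => ?_⟩
      have h3 : c₀ y ∈ Y := (hS Y hY).inv c₀ hc₀ y hy
      rw [LinearEquiv.mul_apply, LinearEquiv.mul_apply, hgi'.2 y (fun x hx => hO y hy x hx), hcy y hy,
        hgl _ (fun x hx => hO _ h3 x hx)]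
  · have h1 : Prp Φ X u := fun x hx => hd.orthU ⟨X, hX⟩ u hu x hx
    rw [LinearEquiv.mul_apply, LinearEquiv.mul_apply, hgi'.2 u h1, hc.2.2 u hu, hgl u h1]

/-- the Frattini argument for a cyclic Sylow subgroup -/
theorem frattini_cyc {G : Type*} [Group G] [Finite G] [hp : Fact p.Prime] {K : Subgroup G} [K.Normal] {α : G}
    (hαp : α ^ p = 1) (hα1 : α ≠ 1) (hK : ∀ (g : G) (k : ℕ), g ^ (p ^ k) = 1 → g ∈ K)
    (hpow : ∀ z c : G, z ^ p = 1 → c ^ p = 1 → z * c = c * z → z ≠ 1 → ∃ j : ℕ, c = z ^ j) (g : G) :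
    ∃ n k : G, k ∈ K ∧ g = n * k ∧ ∃ i : ℕ, n * α * n⁻¹ = α ^ i := by
  have hPG : IsPGroup p ↥(Subgroup.zpowers α) := by
    rintro ⟨_, n, rfl⟩
    refine ⟨1, Subtype.ext ?_⟩
    show (α ^ n) ^ p ^ 1 = 1
    rw [pow_one, ← zpow_natCast, ← zpow_mul, mul_comm, zpow_mul, zpow_natCast, hαp, one_zpow]
  obtain ⟨P, hP⟩ := hPG.exists_le_sylow
  have hαP : α ∈ P := hP (Subgroup.mem_zpowers α)
  have hPK : (P : Subgroup G) ≤ K := by
    intro g hg
    obtain ⟨k, hk⟩ := P.2 ⟨g, hg⟩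
    exact hK g k (congrArg Subtype.val hk)
  have hF := P.normalizer_sup_eq_top' hPK
  have hPne : Nontrivial ↥(P : Subgroup G) :=
    ⟨⟨α, hαP⟩, 1, fun h => hα1 (congrArg (fun z : ↥(P : Subgroup G) => (z : G)) h)⟩
  have hPcn : Nontrivial (Subgroup.center ↥(P : Subgroup G)) := P.2.center_nontrivial
  have hzex : ∃ z : ↥(Subgroup.center ↥(P : Subgroup G)), orderOf z = p := by
    have h1 : IsPGroup p ↥(Subgroup.center ↥(P : Subgroup G)) := P.2.to_subgroup _
    obtain ⟨n, hn⟩ := h1.exists_card_eq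
    have h2 : p ∣ Nat.card ↥(Subgroup.center ↥(P : Subgroup G)) := by
      rcases Nat.eq_zero_or_pos n with h | h
      · rw [h, pow_zero] at hn
        have := Finite.one_lt_card (α := ↥(Subgroup.center ↥(P : Subgroup G)))
        omega
      · rw [hn]
        exact dvd_pow_self p h.ne'
    exact exists_prime_orderOf_dvd_card' p h2
  obtain ⟨z₀, hz₀⟩ := hzex
  let z : G := (z₀ : ↥(P : Subgroup G))
  have hzp : z ^ p = 1 := by
    have h1 : z₀ ^ p = 1 := orderOf_dvd_iff_pow_eq_one.1 (dvd_of_eq hz₀)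
    exact congrArg (fun z : ↥(Subgroup.center ↥(P : Subgroup G)) => ((z : ↥(P : Subgroup G)) : G)) h1
  have hz1 : z ≠ 1 := by
    intro h
    have h1 : z₀ = 1 := Subtype.ext (Subtype.ext h)
    rw [h1, orderOf_one] at hz₀
    exact hp.out.one_lt.ne hz₀
  have hzc : ∀ c ∈ P, z * c = c * z := by
    intro c hc
    have h1 := Subgroup.mem_center_iff.1 z₀.2 ⟨c, hc⟩
    exact (congrArg (fun z : ↥(P : Subgroup G) => (z : G)) h1).symm
  obtain ⟨j, hj⟩ := hpow z α hzp hαp (hzc α hαP) hz1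
  have hpj : ¬ p ∣ j := by
    rintro ⟨m, rfl⟩
    rw [pow_mul, hzp, one_pow] at hj
    exact hα1 hj
  have hzα : ∃ m : ℕ, z = α ^ m := by
    have hc : Nat.Coprime j p := ((Nat.Prime.coprime_iff_not_dvd hp.out).2 hpj).symm
    obtain ⟨m, -, hm⟩ := Nat.exists_mul_mod_eq_one_of_coprime hc hp.out.one_lt
    refine ⟨m, ?_⟩
    rw [hj, ← pow_mul, ← Nat.div_add_mod (j * m) p, hm, pow_add, pow_mul, hzp, one_pow, one_mul, pow_one]
  obtain ⟨m, hm⟩ := hzα
  have h1 : g ∈ (⊤ : Subgroup G) := trivial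
  rw [← hF] at h1
  obtain ⟨n, hn, k, hk, hnk⟩ := Subgroup.mem_sup_of_normal_right.1 h1
  refine ⟨n, k, hk, hnk.symm, ?_⟩
  have h3 : n * α * n⁻¹ ∈ P := (Subgroup.mem_normalizer_iff.1 hn α).1 hαP
  have h4 : (n * α * n⁻¹) ^ p = 1 := by rw [conj_pow, hαp, mul_one, mul_inv_cancel]
  obtain ⟨i, hi⟩ := hpow z _ hzp h4 (hzc _ h3) hz1
  rw [hm, ← pow_mul] at hi
  exact ⟨_, hi⟩

/-- **`N` contains the isometries living on `X`** (Frattini argument). -/
theorem has1_of_nrm (hΦ : Cl Φ) (hE : Ea Φ p A) (hd : ODec Φ U (fun X : S => (X : Submodule F V)))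
    (hS : ∀ X ∈ S, Gd Φ A X) {D N : Subgroup (V ≃ₗ[F] V)}
    (hDn : ∀ g ∈ Φ.Iso, ∀ d ∈ D, g * d * g⁻¹ ∈ D) (hDp : ∀ g ∈ Φ.Iso, ∀ k : ℕ, g ^ (p ^ k) = 1 → g ∈ D)
    (hN : NH Φ D (enl Φ A S U fun X hX => (hS X hX).inv) N) (hX : X ∈ S) : Has1 Φ N X := by
  have hfin : Finite V := Module.finite_of_finite F
  have hfin' : Finite (V ≃ₗ[F] V) := Finite.of_injective (fun g : V ≃ₗ[F] V => (g : V → V)) DFunLike.coe_injective
  have := Fact.mk hE.prime
  obtain ⟨a, ha, hna⟩ := (hS X hX).nt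
  obtain ⟨α, hα, hαl, hαx⟩ := exists_cut (U := U) hE hd (fun X hX => (hS X hX).inv) hX ha
  have hEA := ea_enl hE hd (fun X hX => (hS X hX).inv)
  have hαp : α ^ p = 1 := hEA.pow α hα
  have hα1 : α ≠ 1 := by
    rintro rfl
    obtain ⟨x, hx, hx1⟩ := hna
    exact hx1 (hαx x hx).symm
  -- the normal subgroup `K` of the group of the isometries living on `X`
  let K : Subgroup ↥(locG Φ X) := D.subgroupOf (locG Φ X)
  have hKn : K.Normal := ⟨fun n hn g => hDn g g.2.1 n hn⟩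
  have hKN : ∀ k ∈ K, (k : V ≃ₗ[F] V) ∈ N := fun k hk =>
    mem_of_loc hΦ hE hd hS hN hX k.2.1 hk (k.2.2.mono le_sup_right)
  intro g hg hgl
  obtain ⟨n, k, hk, hnk, i, hi⟩ := frattini_cyc (G := ↥(locG Φ X)) (p := p) (K := K) (α := ⟨α, hα.1, hαl⟩)
    (Subtype.ext hαp) (fun h => hα1 (congrArg Subtype.val h))
    (fun g k hk => hDp g g.2.1 k (congrArg Subtype.val hk))
    (fun z c hz hc hzc hz1 => by
      obtain ⟨j, hj⟩ := pow_of_comm hΦ hE (hS X hX) z.2.1 c.2.1 z.2.2 c.2.2 (congrArg Subtype.val hz)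
        (congrArg Subtype.val hc) (congrArg Subtype.val hzc) (fun h => hz1 (Subtype.ext h))
      exact ⟨j, Subtype.ext hj⟩) ⟨g, hg, hgl⟩
  have h3 : g = (n : V ≃ₗ[F] V) * k := congrArg Subtype.val hnk
  rw [h3]
  exact N.mul_mem (nrm_mem hΦ hE hd hS hN hX ha hna hαl hαx n.2.1 n.2.2 (congrArg Subtype.val hi)) (hKN k hk)

end Cfsg.Agent.H900.Gen
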