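import Mathlib
import Cfsg.Agent.H900.Gen.Nrm
import Cfsg.Agent.H749.QuadSplit
import Cfsg.Agent.H749.BlockOrth
import Cfsg.Agent.ClassicalGeometry.Triality

/-!
# S2187, orthogonal rows: the isometries living on `U ⟂ X`, generation by reflections
-/

set_option autoImplicit false
set_option linter.unusedSectionVars false

namespace Cfsg.Agent.H900.Gen

open Cfsg.Agent.H847.Bs QuadraticMap Cfsg.Agent.LieClassical.OrthCore Cfsg.Agent.LieClassical.OrthTrans

variable {F V : Type*} [Field F] [AddCommGroup V] [Module F V] [Finite F] [FiniteDimensional F V]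
variable {Q : QuadraticForm F V} {A : Subgroup (V ≃ₗ[F] V)} {p : ℕ} {X : Submodule F V}
variable {S : Set (Submodule F V)} {U : Submodule F V}

/-- a nondegenerate subspace of dimension at least two represents every element of the field -/
theorem exists_value_on (hX : (frmQ Q).NdOn X) (h2 : 2 ≤ Module.finrank F X) (c : F) : ∃ x ∈ X, Q x = c := by
  have hn : Nondeg (Q.comp X.subtype) := by
    intro x hx
    exact Subtype.ext (hX x x.2 fun y hy => hx ⟨y, hy⟩)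
  obtain ⟨x, hx⟩ := Cfsg.Agent.H749.exists_value hn h2 c
  exact ⟨x, x.2, hx⟩

/-- the summands have dimension at least two -/
theorem Gd.two_le (hE : Ea (frmQ Q) p A) (hX : Gd (frmQ Q) A X) : 2 ≤ Module.finrank F X := by
  by_contra hcon
  push Not at hcon
  obtain ⟨a, ha, x, hx, hne⟩ := hX.nt
  have hx0 : x ≠ 0 := by
    rintro rfl
    exact hne (map_zero _)
  have hx0' : (⟨x, hx⟩ : X) ≠ 0 := fun h => hx0 (congrArg Subtype.val h)
  have h1 : Module.finrank F X = 1 := by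
    have h3 : Nontrivial X := ⟨⟨⟨x, hx⟩, 0, hx0'⟩⟩
    have h2 : 0 < Module.finrank F X := Module.finrank_pos
    omega
  have hline : ∀ y ∈ X, ∃ c : F, y = c • x := by
    intro y hy
    obtain ⟨c, hc⟩ := (finrank_eq_one_iff_of_nonzero' (⟨x, hx⟩ : X) hx0').1 h1 ⟨y, hy⟩
    exact ⟨c, (congrArg Subtype.val hc).symm⟩
  obtain ⟨c, hc⟩ := hline (a x) (hX.inv a ha x hx)
  have hQx : Q x ≠ 0 := by
    intro h
    apply hx0
    refine hX.nd x hx fun y hy => ?_
    obtain ⟨d, rfl⟩ := hline y hy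
    show polar Q x (d • x) = 0
    rw [polar_smul_right, polar_self', h, mul_zero, smul_zero]
  have h2 : Q (a x) = Q x := (hE.le ha).2 x
  rw [hc, QuadraticMap.map_smul, smul_eq_mul] at h2
  have h3 : c * c = 1 := mul_right_cancel₀ hQx (by rw [h2, one_mul])
  apply hne
  have h4 : ¬ p ∣ 2 := by
    intro h
    exact hE.odd ((Nat.prime_dvd_prime_iff_eq hE.prime Nat.prime_two).1 h)
  refine fix_of_pow hE.prime (hE.pow a ha) h4 ?_
  rw [pow_two, LinearEquiv.mul_apply, hc, map_smul, hc, smul_smul, h3, one_smul]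

theorem refl_mem_locG {v : V} (hv : Q v ≠ 0) (hvX : v ∈ X) : refl Q v hv ∈ locG (frmQ Q) X := by
  refine ⟨by rw [iso_frmQ]; exact refl_mem_O hv, fun x hx => ?_⟩
  have h1 : polar Q v x = 0 := by
    rw [polar_comm]
    exact hx v hvX
  rw [refl_apply, h1, mul_zero, zero_smul, sub_zero]

/-- every isometry is a product of an element of `E Q` and of an isometry living on `X` -/
theorem exists_corr (hG : Good Q) (hX : (frmQ Q).NdOn X) (h2 : 2 ≤ Module.finrank F X) {g : V ≃ₗ[F] V}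
    (hg : g ∈ O Q) : ∃ x ∈ locG (frmQ Q) X, g * x ∈ E Q := by
  refine Cfsg.Agent.H749.O_induction hG (P := fun g => ∃ x ∈ locG (frmQ Q) X, g * x ∈ E Q) ?_ ?_ ?_ ?_ hg
  · intro g hg
    exact ⟨1, one_mem _, by rwa [mul_one]⟩
  · intro v hv
    obtain ⟨x, hx, hxv⟩ := exists_value_on hX h2 (Q v)
    have hx0 : Q x ≠ 0 := by rwa [hxv]
    exact ⟨refl Q x hx0, refl_mem_locG hx0 hx, hG.refl_mul_refl_mem hx0 hv hxv⟩
  · rintro g hg h hh ⟨x, hx, h1⟩ ⟨y, hy, h2⟩
    refine ⟨y * x, mul_mem hy hx, ?_⟩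
    have e : g * h * (y * x) = (g * (h * y) * g⁻¹) * (g * x) := by group
    rw [e]
    exact mul_mem (conj_mem_E hg h2) h1
  · rintro g hg ⟨x, hx, h1⟩
    refine ⟨x⁻¹, inv_mem hx, ?_⟩
    have hxO : x ∈ O Q := by rw [← iso_frmQ]; exact hx.1
    have e : g⁻¹ * x⁻¹ = x * (g * x)⁻¹ * x⁻¹ := by group
    rw [e]
    exact conj_mem_E hxO (inv_mem h1)

/-- the isometry group is generated by the reflections -/
theorem O_le_of_refl (hG : Good Q) {N : Subgroup (V ≃ₗ[F] V)} (h : ∀ (v : V) (hv : Q v ≠ 0), refl Q v hv ∈ N) :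
    O Q ≤ N := by
  intro g hg
  refine Cfsg.Agent.H749.O_induction hG (P := fun g => g ∈ N) ?_ h (fun g _ k _ h1 h2 => N.mul_mem h1 h2)
    (fun g _ h1 => N.inv_mem h1) hg
  exact Cfsg.Agent.ClassicalGeometry.Triality.E_le_of_refl_mul_refl hG fun a b ha hb _ => N.mul_mem (h a ha) (h b hb)

theorem cl_frmQ (hQ : Nondeg Q) : Cl (frmQ Q) := Or.inr (Or.inr ⟨Q, rfl, hQ⟩)

/-- **`N` contains the isometries living on `X`.** -/
theorem has1_X (hG : Good Q) (hE : Ea (frmQ Q) p A) (hd : ODec (frmQ Q) U (fun X : S => (X : Submodule F V)))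
    (hS : ∀ X ∈ S, Gd (frmQ Q) A X) {N : Subgroup (V ≃ₗ[F] V)}
    (hN : NH (frmQ Q) (E Q) (enl (frmQ Q) A S U fun X hX => (hS X hX).inv) N) (hX : X ∈ S) : Has1 (frmQ Q) N X := by
  have := Fact.mk hE.prime
  refine has1_of_nrm (cl_frmQ hG.nondeg) hE hd hS (fun g hg d hd => ?_) (fun g hg k hk => ?_) hN hX
  · rw [iso_frmQ] at hg
    exact conj_mem_E hg hd
  · rw [iso_frmQ] at hg
    exact Cfsg.Agent.H749.mem_E_of_pEl hG hE.odd hg ⟨k, hk⟩

/-- **`N` contains the isometries living on `U ⟂ X`.** -/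
theorem has1_sup (hG : Good Q) (hE : Ea (frmQ Q) p A) (hd : ODec (frmQ Q) U (fun X : S => (X : Submodule F V)))
    (hS : ∀ X ∈ S, Gd (frmQ Q) A X) {N : Subgroup (V ≃ₗ[F] V)}
    (hN : NH (frmQ Q) (E Q) (enl (frmQ Q) A S U fun X hX => (hS X hX).inv) N) (hX : X ∈ S) :
    Has1 (frmQ Q) N (U ⊔ X) := by
  intro g hg hgl
  have hgO : g ∈ O Q := by rw [← iso_frmQ]; exact hg
  obtain ⟨x, hx, hgx⟩ := exists_corr hG (hS X hX).nd ((hS X hX).two_le hE) hgO
  have h1 : g * x ∈ locG (frmQ Q) (U ⊔ X) := mul_mem (show g ∈ locG (frmQ Q) (U ⊔ X) from ⟨hg, hgl⟩)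
    ⟨hx.1, hx.2.mono le_sup_right⟩
  have h2 : g * x ∈ N := mem_of_loc (cl_frmQ hG.nondeg) hE hd hS hN hX h1.1 hgx h1.2
  have h3 : g = g * x * x⁻¹ := by group
  rw [h3]
  exact N.mul_mem h2 (N.inv_mem (has1_X hG hE hd hS hN hX x hx.1 hx.2))

theorem rv_refl {v : V} (hv : Q v ≠ 0) : Rv (frmQ Q) v (refl Q v hv) := by
  refine ⟨by rw [iso_frmQ]; exact refl_mem_O hv, fun x hx => ?_⟩
  have h1 : polar Q v x = 0 := by
    rw [polar_comm]
    exact hx
  rw [refl_apply, h1, mul_zero, zero_smul, sub_zero]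

/-- the case of big summands -/
theorem iso_le_of_big (hG : Good Q) (hE : Ea (frmQ Q) p A) (hd : ODec (frmQ Q) U (fun X : S => (X : Submodule F V)))
    (hS : ∀ X ∈ S, Gd (frmQ Q) A X) (hne : S.Nonempty) (hbig : ∀ X ∈ S, 9 * Nat.card F ^ 2 ≤ Nat.card X)
    {N : Subgroup (V ≃ₗ[F] V)}
    (hN : NH (frmQ Q) (E Q) (enl (frmQ Q) A S U fun X hX => (hS X hX).inv) N) : O Q ≤ N := by
  refine O_le_of_refl hG fun v hv => ?_
  refine orbit_main (cl_frmQ hG.nondeg) hE hd hS hne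
    (fun X hX => Or.inr (Or.inr ⟨Q, rfl, hG.nondeg, hbig X hX⟩)) (fun g hg k hk => ?_) hN
    (fun X hX => has1_sup hG hE hd hS hN hX) (rv_refl hv)
  rw [iso_frmQ] at hg hk
  exact Cfsg.Agent.H749.comm_mem_E hG hg hk

end Cfsg.Agent.H900.Gen
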