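import Mathlib
import Cfsg.Agent.H900.Gen.OrthL

/-!
# S2187, orthogonal rows: summands of dimension two

`orbit_small` : if the anisotropic planes `X i` can only be merged in vectors of nonzero norm, `N` still contains all
reflections.
-/

set_option autoImplicit false
set_option linter.unusedSectionVars false

namespace Cfsg.Agent.H900.Gen

open Cfsg.Agent.H847.Bs QuadraticMap Cfsg.Agent.LieClassical.OrthCore Cfsg.Agent.LieClassical.OrthTrans

variable {F V : Type*} [Field F] [AddCommGroup V] [Module F V] [Finite F] [FiniteDimensional F V]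
variable {Q : QuadraticForm F V}

section

variable {ι : Type*} {U : Submodule F V} {X : ι → Submodule F V} {N : Subgroup (V ≃ₗ[F] V)}

/-- `v` can be moved into some `U ⟂ X i` -/
def Rch (U : Submodule F V) (X : ι → Submodule F V) (N : Subgroup (V ≃ₗ[F] V)) (v : V) : Prop :=
  ∃ n ∈ N, ∃ i, n v ∈ U ⊔ X i

theorem Rch.of {v : V} {n : V ≃ₗ[F] V} (hn : n ∈ N) (h : Rch U X N (n v)) : Rch U X N v := by
  obtain ⟨m, hm, i, hi⟩ := h
  exact ⟨m * n, N.mul_mem hm hn, i, hi⟩

variable [Fintype ι] [DecidableEq ι]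

/-- changing two components -/
def upd (x : ι → V) (i j : ι) (a b : V) : ι → V :=
  fun k => if k = i then a else if k = j then b else x k

theorem upd_i (x : ι → V) (i j : ι) (a b : V) : upd x i j a b i = a := by simp [upd]

theorem upd_j (x : ι → V) {i j : ι} (hij : i ≠ j) (a b : V) : upd x i j a b j = b := by
  simp [upd, hij.symm]

theorem upd_k (x : ι → V) {i j k : ι} (hi : k ≠ i) (hj : k ≠ j) (a b : V) : upd x i j a b k = x k := by
  simp [upd, hi, hj]

theorem sum_upd (x : ι → V) {i j : ι} (hij : i ≠ j) (a b : V) :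
    ∑ k, upd x i j a b k = ∑ k, x k - (x i + x j) + (a + b) := by
  have e : ∀ k, upd x i j a b k = x k + (if k = i then a - x i else 0) + (if k = j then b - x j else 0) := by
    intro k
    by_cases h1 : k = i
    · subst h1
      rw [upd_i, if_pos rfl, if_neg hij]
      abel
    · by_cases h2 : k = j
      · subst h2
        rw [upd_j x hij, if_neg h1, if_pos rfl]
        abel
      · rw [upd_k x h1 h2, if_neg h1, if_neg h2]
        abel
  simp only [e, Finset.sum_add_distrib, Finset.sum_ite_eq', Finset.mem_univ, if_true]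
  abel

theorem perp_rest (hd : ODec (frmQ Q) U X) {u : V} (hu : u ∈ U) {x : ι → V} (hx : ∀ i, x i ∈ X i) {i j : ι}
    (hij : i ≠ j) : Prp (frmQ Q) (X i ⊔ X j) (u + (∑ k, x k - (x i + x j))) := by
  have e1 : ∑ k, x k - (x i + x j) = ∑ k ∈ (Finset.univ.erase i).erase j, x k := by
    rw [← Finset.add_sum_erase Finset.univ x (Finset.mem_univ i),
      ← Finset.add_sum_erase (Finset.univ.erase i) x (Finset.mem_erase.2 ⟨hij.symm, Finset.mem_univ j⟩)]
    abel
  rw [e1, ← mem_perp]
  refine Submodule.add_mem _ (hd.prp_U hu) (Submodule.sum_mem _ fun k hk => ?_)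
  rw [mem_perp]
  exact hd.prp_X (Finset.ne_of_mem_erase (Finset.mem_of_mem_erase hk)) (Finset.ne_of_mem_erase hk) (hx k)

/-- moving two components -/
theorem move2 (hd : ODec (frmQ Q) U X) {u : V} (hu : u ∈ U) {x : ι → V} (hx : ∀ i, x i ∈ X i) {i j : ι}
    (hij : i ≠ j) {n : V ≃ₗ[F] V} (hl : Loc (frmQ Q) (X i ⊔ X j) n) {a b : V} (h : n (x i + x j) = a + b) :
    n (u + ∑ k, x k) = u + ∑ k, upd x i j a b k := by
  have e : u + ∑ k, x k = (u + (∑ k, x k - (x i + x j))) + (x i + x j) := by abel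
  rw [e, map_add, hl _ (perp_rest hd hu hx hij), h, sum_upd x hij]
  abel

/-- moving `u` and one component -/
theorem moveU (hd : ODec (frmQ Q) U X) {u : V} {x : ι → V} (hx : ∀ i, x i ∈ X i) {i j : ι}
    (hij : i ≠ j) {n : V ≃ₗ[F] V} (hl : Loc (frmQ Q) (U ⊔ X i) n) {z : V} (h : n (u + x i) = z) :
    n (u + ∑ k, x k) = 0 + ∑ k, upd x i j z (x j) k := by
  have e : u + ∑ k, x k = (∑ k ∈ Finset.univ.erase i, x k) + (u + x i) := by
    rw [← Finset.add_sum_erase Finset.univ x (Finset.mem_univ i)]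
    abel
  have h1 : Prp (frmQ Q) (U ⊔ X i) (∑ k ∈ Finset.univ.erase i, x k) := by
    rw [← mem_perp]
    refine Submodule.sum_mem _ fun k hk => ?_
    rw [mem_perp]
    intro w hw
    obtain ⟨a, ha, b, hb, rfl⟩ := Submodule.mem_sup.1 hw
    rw [(frmQ Q).add_right, (B_comm_zero _).1 (hd.orthU k a ha _ (hx k)),
      hd.orth k i (Finset.ne_of_mem_erase hk) _ (hx k) b hb, add_zero]
  rw [e, map_add, hl _ h1, h, sum_upd x hij, ← Finset.add_sum_erase Finset.univ x (Finset.mem_univ i)]
  abel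

/-- the support -/
noncomputable def sup (x : ι → V) : Finset ι := by
  classical
  exact Finset.univ.filter fun i => x i ≠ 0

theorem mem_sup {x : ι → V} {i : ι} : i ∈ sup x ↔ x i ≠ 0 := by
  classical
  simp [sup]

theorem polar_zero (hd : ODec (frmQ Q) U X) {x : ι → V} (hx : ∀ i, x i ∈ X i) {i j : ι} (hij : i ≠ j) :
    polar Q (x i) (x j) = 0 := hd.orth i j hij _ (hx i) _ (hx j)

theorem Q_add' (hd : ODec (frmQ Q) U X) {x : ι → V} (hx : ∀ i, x i ∈ X i) {i j : ι} (hij : i ≠ j) :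
    Q (x i + x j) = Q (x i) + Q (x j) := by
  rw [Q_add, polar_zero hd hx hij, add_zero]

theorem upd_mem {x : ι → V} (hx : ∀ i, x i ∈ X i) {i j : ι} (hij : i ≠ j) {a b : V} (ha : a ∈ X i) (hb : b ∈ X j) :
    ∀ k, upd x i j a b k ∈ X k := by
  intro k
  by_cases h1 : k = i
  · subst h1
    rwa [upd_i]
  · by_cases h2 : k = j
    · subst h2
      rwa [upd_j x hij]
    · rw [upd_k x h1 h2]
      exact hx k

theorem sup_upd_le {x : ι → V} {i j : ι} (hij : i ≠ j) (hi : x i ≠ 0) (hj : x j ≠ 0) (a b : V) :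
    (sup (upd x i j a b)).card ≤ (sup x).card := by
  refine Finset.card_le_card fun k hk => ?_
  rw [mem_sup] at hk ⊢
  by_cases h1 : k = i
  · subst h1
    exact hi
  · by_cases h2 : k = j
    · subst h2
      exact hj
    · rwa [upd_k x h1 h2] at hk

theorem sup_upd_lt {x : ι → V} {i j : ι} (hij : i ≠ j) (hi : x i ≠ 0) (hj : x j ≠ 0) {a b : V} (h : a = 0 ∨ b = 0) :
    (sup (upd x i j a b)).card < (sup x).card := by
  refine Finset.card_lt_card ?_
  rw [Finset.ssubset_iff_of_subset]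
  · rcases h with h | h
    · refine ⟨i, mem_sup.2 hi, fun h1 => ?_⟩
      rw [mem_sup, upd_i] at h1
      exact h1 h
    · refine ⟨j, mem_sup.2 hj, fun h1 => ?_⟩
      rw [mem_sup, upd_j x hij] at h1
      exact h1 h
  · intro k hk
    rw [mem_sup] at hk ⊢
    by_cases h1 : k = i
    · subst h1
      exact hi
    · by_cases h2 : k = j
      · subst h2
        exact hj
      · rwa [upd_k x h1 h2] at hk

/-- the induction hypothesis -/
def RchP (Q : QuadraticForm F V) (U : Submodule F V) (X : ι → Submodule F V) (N : Subgroup (V ≃ₗ[F] V)) (m : ℕ) : Prop :=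
  ∀ u ∈ U, ∀ x : ι → V, (∀ i, x i ∈ X i) → (sup x).card ≤ m → Q (u + ∑ k, x k) ≠ 0 → Rch U X N (u + ∑ k, x k)

theorem redA (hd : ODec (frmQ Q) U X) (hN : N ≤ O Q) (hMq : ∀ i j, i ≠ j → Mq (frmQ Q) N (X i) (X j)) {m : ℕ}
    (ih : RchP Q U X N m) {u : V} (hu : u ∈ U) {x : ι → V} (hx : ∀ i, x i ∈ X i) (hc : (sup x).card ≤ m + 1)
    (hv : Q (u + ∑ k, x k) ≠ 0) {i j : ι} (hij : i ≠ j) (hi : x i ≠ 0) (hj : x j ≠ 0)
    (hs : Q (x i) + Q (x j) ≠ 0) : Rch U X N (u + ∑ k, x k) := by
  have h1 : Q (x i + x j) ≠ 0 := by rwa [Q_add' hd hx hij]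
  obtain ⟨n, hn, hl, hnx⟩ := hMq i j hij (x i) (hx i) (x j) (hx j) hi (Or.inr h1)
  have h2 := move2 hd hu hx hij hl (a := n (x i + x j)) (b := 0) (by rw [add_zero])
  refine Rch.of hn ?_
  have h3 := mem_O.1 (hN hn) (u + ∑ k, x k)
  rw [h2] at h3 ⊢
  refine ih u hu _ (upd_mem hx hij hnx (X j).zero_mem) ?_ (by rwa [h3])
  have h4 := sup_upd_lt hij hi hj (a := n (x i + x j)) (b := 0) (Or.inr rfl)
  omega

theorem redB (hd : ODec (frmQ Q) U X) (hQ : Nondeg Q) (hN : N ≤ O Q) (hMq : ∀ i j, i ≠ j → Mq (frmQ Q) N (X i) (X j))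
    (hN1 : ∀ i, Has1 (frmQ Q) N (U ⊔ X i)) (hval : ∀ i c, ∃ x ∈ X i, Q x = c) {m : ℕ}
    (ih : RchP Q U X N m) {u : V} (hu : u ∈ U) {x : ι → V} (hx : ∀ i, x i ∈ X i) (hc : (sup x).card ≤ m + 1)
    (hv : Q (u + ∑ k, x k) ≠ 0) {i j : ι} (hij : i ≠ j) (hi : x i ≠ 0) (hj : x j ≠ 0)
    (hs : Q (x i) + Q (x j) = 0) (hQu : Q u ≠ 0) (hui : Q u + Q (x i) ≠ 0) : Rch U X N (u + ∑ k, x k) := by
  obtain ⟨z, hz, hzQ⟩ := hval i (Q u + Q (x i))
  have hpu : polar Q u (x i) = 0 := hd.orthU i u hu _ (hx i)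
  have h1 : Q (u + x i) = Q u + Q (x i) := by rw [Q_add, hpu, add_zero]
  have hz0 : z ≠ 0 := by
    rintro rfl
    rw [QuadraticMap.map_zero] at hzQ
    exact hui hzQ.symm
  have hux0 : u + x i ≠ 0 := by
    intro h
    rw [h, QuadraticMap.map_zero] at h1
    exact hui h1.symm
  have hW : (frmQ Q).NdOn (U ⊔ X i) := ndOn_sup hd.ndU (hd.nd i) (hd.orthU i)
  obtain ⟨n, hn, hl, hnx⟩ := (cl_frmQ hQ).witt_on hW (Submodule.add_mem_sup hu (hx i)) (Submodule.mem_sup_right hz)
    hux0 hz0 (by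
      show polar Q _ _ = polar Q _ _
      rw [polar_self', polar_self', h1, hzQ]) (by
      show Q _ = Q _
      rw [h1, hzQ])
  have hnN : n ∈ N := hN1 i n hn hl
  have h2 := moveU hd hx hij hl hnx
  refine Rch.of hnN ?_
  have h3 := mem_O.1 (hN hnN) (u + ∑ k, x k)
  rw [h2] at h3 ⊢
  have hx' := upd_mem hx hij hz (hx j)
  refine redA hd hN hMq ih U.zero_mem hx' ((sup_upd_le hij hi hj _ _).trans hc) (by rwa [h3]) hij ?_ ?_ ?_
  · rwa [upd_i]
  · rwa [upd_j x hij]
  · rw [upd_i, upd_j x hij, hzQ, add_assoc, hs, add_zero]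
    exact hQu

/-- the reflections in the vectors of `X i ⟂ X j` -/
theorem refl_mem_pair (hd : ODec (frmQ Q) U X) (hN : N ≤ O Q) (hMq : ∀ i j, i ≠ j → Mq (frmQ Q) N (X i) (X j))
    (hN1 : ∀ i, Has1 (frmQ Q) N (U ⊔ X i)) {i j : ι} (hij : i ≠ j) {x y : V} (hx : x ∈ X i) (hy : y ∈ X j) (hx0 : x ≠ 0)
    (h : Q (x + y) ≠ 0) : refl Q (x + y) h ∈ N := by
  obtain ⟨n, hn, hl, hnx⟩ := hMq i j hij x hx y hy hx0 (Or.inr h)
  exact (rv_refl h).of_conj (by rw [iso_frmQ]; exact hN hn) hn (Submodule.mem_sup_right hnx) (hN1 i)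

theorem exists_y (hd : ODec (frmQ Q) U X) (h3 : ∃ t : F, t ≠ 0 ∧ t ≠ 1) (h2 : (2 : F) = 0) {j : ι} {b : V}
    (hb : b ∈ X j) (hb0 : b ≠ 0) {c : F} (hc : c ≠ 0) : ∃ y ∈ X j, polar Q b y ≠ 0 ∧ Q y ≠ c := by
  have h1 : ∃ y ∈ X j, polar Q b y ≠ 0 := by
    by_contra hcon
    push Not at hcon
    exact hb0 (hd.nd j b hb hcon)
  obtain ⟨y, hy, hby⟩ := h1
  by_cases hyc : Q y = c
  · obtain ⟨t, ht0, ht1⟩ := h3
    refine ⟨t • y, (X j).smul_mem t hy, ?_, ?_⟩
    · rw [polar_smul_right, smul_eq_mul]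
      exact mul_ne_zero ht0 hby
    · rw [QuadraticMap.map_smul, smul_eq_mul, hyc]
      intro h
      have h4 : (t - 1) * (t - 1) * c = 0 := by linear_combination h + (c - t * c) * h2
      have h5 : t - 1 ≠ 0 := sub_ne_zero.2 ht1
      exact mul_ne_zero (mul_ne_zero h5 h5) hc h4
  · exact ⟨y, hy, hby, hyc⟩

theorem rchP (hd : ODec (frmQ Q) U X) [Nonempty ι] (hQ : Nondeg Q) (hN : N ≤ O Q)
    (hMq : ∀ i j, i ≠ j → Mq (frmQ Q) N (X i) (X j))
    (hN1 : ∀ i, Has1 (frmQ Q) N (U ⊔ X i)) (hval : ∀ i c, ∃ x ∈ X i, Q x = c)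
    (han : ∀ i, ∀ x ∈ X i, Q x = 0 → x = 0) (h3 : (2 : F) = 0 → ∃ t : F, t ≠ 0 ∧ t ≠ 1) (m : ℕ) : RchP Q U X N m := by
  have base : RchP Q U X N 1 := by
    intro u hu x hx hc hv
    rcases Nat.le_one_iff_eq_zero_or_eq_one.1 hc with h | h
    · have h1 : sup x = ∅ := Finset.card_eq_zero.1 h
      have h2 : ∀ k, x k = 0 := by
        intro k
        by_contra hk
        have : k ∈ sup x := mem_sup.2 hk
        rw [h1] at this
        exact absurd this (Finset.notMem_empty k)
      obtain ⟨i⟩ := ‹Nonempty ι›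
      refine ⟨1, N.one_mem, i, ?_⟩
      rw [Finset.sum_eq_zero (fun k _ => h2 k), add_zero]
      exact Submodule.mem_sup_left hu
    · obtain ⟨i, hi⟩ := Finset.card_eq_one.1 h
      have h2 : ∀ k, k ≠ i → x k = 0 := by
        intro k hk
        by_contra hk0
        have h3 : k ∈ sup x := mem_sup.2 hk0
        rw [hi, Finset.mem_singleton] at h3
        exact hk h3
      refine ⟨1, N.one_mem, i, ?_⟩
      rw [Finset.sum_eq_single i (fun k _ hk => h2 k hk) (fun h => absurd (Finset.mem_univ i) h)]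
      exact Submodule.add_mem_sup hu (hx i)
  induction m with
  | zero => exact fun u hu x hx hc hv => base u hu x hx (by omega) hv
  | succ m ih =>
    intro u hu x hx hc hv
    by_cases hm : (sup x).card ≤ m
    · exact ih u hu x hx hm hv
    by_cases h1 : (sup x).card ≤ 1
    · exact base u hu x hx h1 hv
    push Not at h1 hm
    by_cases hp : ∃ i j, i ≠ j ∧ x i ≠ 0 ∧ x j ≠ 0 ∧ Q (x i) + Q (x j) ≠ 0
    · obtain ⟨i, j, hij, hi, hj, hs⟩ := hp
      exact redA hd hN hMq ih hu hx hc hv hij hi hj hs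
    push Not at hp
    obtain ⟨i, hi', j, hj', hij⟩ := Finset.one_lt_card.1 h1
    have hi := mem_sup.1 hi'
    have hj := mem_sup.1 hj'
    have hs := hp i j hij hi hj
    have hQi : Q (x i) ≠ 0 := fun h => hi (han i _ (hx i) h)
    -- if there is no third component then `Q v = Q u`
    have hQv : (∀ k, k ≠ i → k ≠ j → x k = 0) → Q (u + ∑ k, x k) = Q u := by
      intro h
      have e1 : ∑ k, x k = x i + x j := by
        rw [← Finset.add_sum_erase Finset.univ x (Finset.mem_univ i),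
          ← Finset.add_sum_erase (Finset.univ.erase i) x (Finset.mem_erase.2 ⟨hij.symm, Finset.mem_univ j⟩),
          Finset.sum_eq_zero (fun k hk => h k (Finset.ne_of_mem_erase (Finset.mem_of_mem_erase hk))
            (Finset.ne_of_mem_erase hk)), add_zero]
      have e2 : polar Q u (x i + x j) = 0 := by
        rw [polar_add_right]
        have e3 : polar Q u (x i) = 0 := hd.orthU i u hu _ (hx i)
        have e4 : polar Q u (x j) = 0 := hd.orthU j u hu _ (hx j)
        rw [e3, e4, add_zero]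
      rw [e1, Q_add, e2, Q_add' hd hx hij, hs, add_zero, add_zero]
    by_cases h2 : (2 : F) = 0
    · -- characteristic two
      obtain ⟨y, hy, hpy, hQy⟩ := exists_y hd (h3 h2) h2 (hx j) hj (c := Q (x i)) hQi
      have hxy : polar Q (x i) y = 0 := hd.orth i j hij _ (hx i) _ hy
      have hw : Q (x i + y) ≠ 0 := by
        rw [Q_add, hxy, add_zero]
        intro h
        apply hQy
        linear_combination h - (Q (x i)) * h2
      have hrN := refl_mem_pair hd hN hMq hN1 hij (hx i) hy hi hw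
      set μ : F := (Q (x i + y))⁻¹ * polar Q (x i + y) (x i + x j) with hμ
      have hp2 : polar Q (x i + y) (x i + x j) ≠ 0 := by
        have e1 : polar Q y (x i) = 0 := by rw [polar_comm]; exact hxy
        rw [polar_add_left, polar_add_right, polar_add_right, polar_self', polar_zero hd hx hij, e1, h2, polar_comm Q y]
        simpa using hpy
      have hμ0 : μ ≠ 0 := mul_ne_zero (inv_ne_zero hw) hp2
      have e1 : refl Q (x i + y) hw (x i + x j) = (1 - μ) • x i + (x j - μ • y) := by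
        rw [refl_apply]
        rw [← hμ]
        module
      have hrl : Loc (frmQ Q) (X i ⊔ X j) (refl Q (x i + y) hw) :=
        (refl_mem_locG hw (Submodule.add_mem_sup (hx i) hy)).2
      have e2 := move2 hd hu hx hij hrl e1
      have ha : (1 - μ) • x i ∈ X i := (X i).smul_mem _ (hx i)
      have hb : x j - μ • y ∈ X j := (X j).sub_mem (hx j) ((X j).smul_mem _ hy)
      have hx' := upd_mem hx hij ha hb
      have e3 := mem_O.1 (refl_mem_O hw) (u + ∑ k, x k)
      have hv' : Q (u + ∑ k, upd x i j ((1 - μ) • x i) (x j - μ • y) k) ≠ 0 := by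
        rw [← e2, e3]
        exact hv
      have hQ' : Q ((1 - μ) • x i) = Q (x i) + μ * μ * Q (x i) := by
        rw [QuadraticMap.map_smul, smul_eq_mul]
        linear_combination (- (μ * Q (x i))) * h2
      by_cases hab : (1 - μ) • x i = 0 ∨ x j - μ • y = 0
      · refine Rch.of hrN ?_
        rw [e2]
        refine ih u hu _ hx' ?_ hv'
        have := sup_upd_lt hij hi hj hab
        omega
      push Not at hab
      have hμQ : μ * μ * Q (x i) ≠ 0 := mul_ne_zero (mul_ne_zero hμ0 hμ0) hQi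
      by_cases hk : ∃ k, k ≠ i ∧ k ≠ j ∧ x k ≠ 0
      · obtain ⟨k, hki, hkj, hk⟩ := hk
        refine Rch.of hrN ?_
        rw [e2]
        refine redA hd hN hMq ih hu hx' ((sup_upd_le hij hi hj _ _).trans hc) hv' (i := i) (j := k) hki.symm ?_ ?_ ?_
        · rw [upd_i]
          exact hab.1
        · rwa [upd_k x hki hkj]
        · rw [upd_i, upd_k x hki hkj, hQ']
          have h4 := hp i k hki.symm hi hk
          intro h
          apply hμQ
          linear_combination h - h4
      · push Not at hk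
        have hQu : Q u ≠ 0 := by
          rw [← hQv fun k h1 h2 => hk k h1 h2]
          exact hv
        by_cases hu1 : Q u + Q (x i) = 0
        · refine Rch.of hrN ?_
          rw [e2]
          refine redB hd hQ hN hMq hN1 hval ih hu hx' ((sup_upd_le hij hi hj _ _).trans hc) hv' hij ?_ ?_ ?_ hQu ?_
          · rw [upd_i]
            exact hab.1
          · rw [upd_j x hij]
            exact hab.2
          · have e4 : polar Q ((1 - μ) • x i) (x j - μ • y) = 0 := hd.orth i j hij _ ha _ hb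
            have e5 := mem_O.1 (refl_mem_O hw) (x i + x j)
            rw [e1, Q_add, e4, add_zero, Q_add' hd hx hij, hs] at e5
            rw [upd_i, upd_j x hij]
            exact e5
          · rw [upd_i, hQ', ← add_assoc, hu1, zero_add]
            exact hμQ
        · exact redB hd hQ hN hMq hN1 hval ih hu hx hc hv hij hi hj hs hQu hu1
    · -- odd characteristic
      have hk : ∀ k, k ≠ i → k ≠ j → x k = 0 := by
        intro k hki hkj
        by_contra hk
        have h4 := hp i k hki.symm hi hk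
        have h5 := hp k j hkj hk hj
        have h6 : (2 : F) * Q (x i) = 0 := by linear_combination h4 - h5 + hs
        exact mul_ne_zero h2 hQi h6
      have hQu : Q u ≠ 0 := by
        rw [← hQv hk]
        exact hv
      by_cases hu1 : Q u + Q (x i) = 0
      · refine redB hd hQ hN hMq hN1 hval ih hu hx hc hv hij.symm hj hi (by rw [add_comm]; exact hs) hQu ?_
        intro h
        have h6 : (2 : F) * Q u = 0 := by linear_combination h + hu1 - hs
        exact mul_ne_zero h2 hQu h6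
      · exact redB hd hQ hN hMq hN1 hval ih hu hx hc hv hij hi hj hs hQu hu1

end

end Cfsg.Agent.H900.Gen
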