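import Mathlib
import Cfsg.Agent.H900.Gen.OrthS

/-!
# S2187, orthogonal rows: the linear statement

`lin_orth` : `LinIso (frmQ Q) p (E Q)`.
-/

set_option autoImplicit false
set_option linter.unusedSectionVars false

namespace Cfsg.Agent.H900.Gen

open Cfsg.Agent.H847.Bs QuadraticMap Cfsg.Agent.LieClassical.OrthCore Cfsg.Agent.LieClassical.OrthTrans

variable {F V : Type*} [Field F] [AddCommGroup V] [Module F V] [Finite F] [FiniteDimensional F V]
variable {Q : QuadraticForm F V} {A : Subgroup (V ≃ₗ[F] V)} {p : ℕ} {X : Submodule F V}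
variable {S : Set (Submodule F V)} {U : Submodule F V}

/-- the summands have even dimension -/
theorem Gd.even (hQ : Nondeg Q) (hE : Ea (frmQ Q) p A) (hX : Gd (frmQ Q) A X) : ∃ d : ℕ, Module.finrank F X = 2 * d := by
  obtain ⟨a, ha, hna⟩ := hX.nt
  have hXa : Inv a X := hX.inv a ha
  have hirr : ∀ Z ≤ X, Inv a Z → Z = ⊥ ∨ Z = X := fun Z hZ hZi => hX.irr hE ha hna hZ hZi
  have hf := Cfsg.Agent.H900.Gen.minpoly_irr hX.ne hXa hirr
  have h := Cfsg.Agent.H900.Gen.mg_of' (Φ := frmQ Q) (X := X) (Y := ⊥) (b := a) (N := ⊤) (cl_frmQ hQ) hX.nd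
    (fun x hx _ => (Submodule.mem_bot F).1 hx)
    (fun x _ y hy => by
      rw [(Submodule.mem_bot F).1 hy]
      exact B_zero_right _ x)
    (hE.le ha) hXa (fun y hy => by
      rw [(Submodule.mem_bot F).1 hy, map_zero]
      exact Submodule.zero_mem _) hf
    (fun x hx => by
      have e2 := aeval_rs a hXa (minpoly F (rs a hXa)) ⟨x, hx⟩
      rw [minpoly.aeval] at e2
      exact e2.symm)
    (fun y hy => by rw [(Submodule.mem_bot F).1 hy, map_zero]) hirr hX.ne
    (by
      by_contra hcon
      push Not at hcon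
      obtain ⟨x, hx, hx1⟩ := hna
      have h4 : ¬ p ∣ 2 := by
        intro h
        exact hE.odd ((Nat.prime_dvd_prime_iff_eq hE.prime Nat.prime_two).1 h)
      refine hx1 (fix_of_pow hE.prime (hE.pow a ha) h4 ?_)
      rw [pow_two]
      exact hcon x hx)
    (fun _ _ _ => Subgroup.mem_top _) (fun _ _ _ _ _ _ _ _ => Subgroup.mem_top _)
  obtain ⟨d, hd⟩ := h.2.2 (fun _ => rfl)
  refine ⟨d, ?_⟩
  rw [Module.natCard_eq_pow_finrank (K := F) (V := X)] at hd
  exact Nat.pow_right_injective (Finite.one_lt_card (α := F)) hd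

/-- the anisotropic planes -/
theorem Gd.anis (hE : Ea (frmQ Q) p A) (hX : Gd (frmQ Q) A X) (h2 : Module.finrank F X = 2) :
    ∀ x ∈ X, Q x = 0 → x = 0 := by
  intro x hx hQx
  by_contra hx0
  obtain ⟨a, ha, hna⟩ := hX.nt
  have hXa : Inv a X := hX.inv a ha
  have hirr : ∀ Z ≤ X, Inv a Z → Z = ⊥ ∨ Z = X := fun Z hZ hZi => hX.irr hE ha hna hZ hZi
  have haO : a ∈ O Q := by rw [← iso_frmQ]; exact hE.le ha
  -- no eigenvector
  have hne : ∀ y ∈ X, y ≠ 0 → ∀ c : F, a y ≠ c • y := by
    intro y hy hy0 c hc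
    rcases hirr (F ∙ y) ((Submodule.span_singleton_le_iff_mem _ _).2 hy) (by
      intro z hz
      obtain ⟨d, rfl⟩ := Submodule.mem_span_singleton.1 hz
      rw [map_smul, hc, smul_smul]
      exact Submodule.smul_mem _ _ (Submodule.mem_span_singleton_self y)) with h | h
    · exact hy0 (Submodule.span_singleton_eq_bot.1 h)
    · have h3 : Module.finrank F X = 1 := by rw [← h]; exact finrank_span_singleton hy0
      omega
  have hax := hXa x hx
  have hli : LinearIndependent F ![x, a x] := by
    rw [LinearIndependent.pair_iff]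
    intro s t hst
    by_cases ht : t = 0
    · subst ht
      rw [zero_smul, add_zero] at hst
      rcases smul_eq_zero.1 hst with h | h
      · exact ⟨h, rfl⟩
      · exact absurd h hx0
    · exfalso
      refine hne x hx hx0 (-(t⁻¹ * s)) ?_
      have h4 : a x = t⁻¹ • (t • a x) := by rw [smul_smul, inv_mul_cancel₀ ht, one_smul]
      have h5 : t • a x = -(s • x) := by rw [eq_neg_iff_add_eq_zero, add_comm]; exact hst
      rw [h4, h5, smul_neg, smul_smul, neg_smul]
  have hspan : ∀ y ∈ X, ∃ s t : F, y = s • x + t • a x := by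
    intro y hy
    have h4 : Submodule.span F (Set.range ![x, a x]) = X := by
      refine Submodule.eq_of_le_of_finrank_le (Submodule.span_le.2 ?_) ?_
      · rintro _ ⟨i, rfl⟩
        fin_cases i
        · exact hx
        · exact hax
      · rw [finrank_span_eq_card hli, Fintype.card_fin, h2]
    rw [← h4] at hy
    have h5 : Set.range ![x, a x] = {x, a x} := Matrix.range_cons_cons_empty x (a x) ![]
    rw [h5] at hy
    obtain ⟨s, t, h⟩ := Submodule.mem_span_pair.1 hy
    exact ⟨s, t, h.symm⟩
  have hQa : Q (a x) = 0 := by rw [mem_O.1 haO, hQx]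
  have hb : polar Q x (a x) ≠ 0 := by
    intro hb
    apply hx0
    refine hX.nd x hx fun y hy => ?_
    obtain ⟨s, t, rfl⟩ := hspan y hy
    show polar Q x _ = 0
    rw [polar_add_right, polar_smul_right, polar_smul_right, hb, polar_self_of_sing hQx, smul_zero, smul_zero, add_zero]
  obtain ⟨s, t, h⟩ := hspan (a (a x)) (hXa _ hax)
  have h3 : Q (a (a x)) = 0 := by rw [mem_O.1 haO, hQa]
  rw [h, Q_add, QuadraticMap.map_smul, QuadraticMap.map_smul, hQx, hQa, polar_smul_left, polar_smul_right, smul_zero,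
    smul_zero, zero_add, zero_add, smul_eq_mul, smul_eq_mul] at h3
  rcases mul_eq_zero.1 h3 with h4 | h4
  · rw [h4, zero_smul, zero_add] at h
    refine hne (a x) hax ?_ t h
    intro h5
    exact hx0 (a.map_eq_zero_iff.1 h5)
  · rcases mul_eq_zero.1 h4 with h5 | h5
    · -- `a² x = s x`
      rw [h5, zero_smul, add_zero] at h
      -- `a = (a²)^m`
      obtain ⟨m, hm⟩ := hE.prime.odd_of_ne_two hE.odd
      have h6 : ∀ n : ℕ, ((a * a) ^ n) x = (s ^ n) • x := by
        intro n
        induction n with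
        | zero => rw [pow_zero, pow_zero, one_smul]; rfl
        | succ n ih =>
          rw [pow_succ', LinearEquiv.mul_apply, ih, map_smul, LinearEquiv.mul_apply, h, smul_smul, pow_succ]
      have h7 : (a * a) ^ (m + 1) = a := by
        rw [← pow_two, ← pow_mul, show 2 * (m + 1) = (2 * m + 1) + 1 by ring, ← hm, pow_succ, hE.pow a ha, one_mul]
      have h8 := h6 (m + 1)
      rw [h7] at h8
      exact hne x hx hx0 _ h8
    · exact hb h5

/-- all summands have the same dimension -/
theorem finrank_eq_of_gd (hE : Ea (frmQ Q) p A) (hS : ∀ X ∈ S, Gd (frmQ Q) A X) {Y : Submodule F V} (hX : X ∈ S)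
    (hY : Y ∈ S) : Module.finrank F X ≤ Module.finrank F Y := by
  obtain ⟨a, ha, hna⟩ := (hS X hX).nt
  obtain ⟨c, hc, hnc⟩ := (hS Y hY).nt
  exact finrank_le_of_match hE.prime ((hS X hX).inv a ha) ((hS Y hY).inv c hc) (hS X hX).ne (hS Y hY).ne (hE.pow a ha)
    (hE.pow c hc) (fun Z hZ hZi => (hS X hX).irr hE ha hna hZ hZi) (fun Z hZ hZi => (hS Y hY).irr hE hc hnc hZ hZi)
    hna hnc

/-- `p` divides `|X| - 1` -/
theorem Gd.card_modEq (hE : Ea (frmQ Q) p A) (hX : Gd (frmQ Q) A X) : Nat.card X ≡ 1 [MOD p] := by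
  classical
  have hfin : Finite V := Module.finite_of_finite F
  have := Fintype.ofFinite X
  have := Fact.mk hE.prime
  obtain ⟨a, ha, hna⟩ := hX.nt
  have hXa : Inv a X := hX.inv a ha
  let f : Function.End X := fun x => ⟨a x, hXa x x.2⟩
  have hf : ∀ n : ℕ, ∀ x : X, (((f ^ n) x : X) : V) = (a ^ n) x := by
    intro n
    induction n with
    | zero => intro x; rfl
    | succ n ih =>
      intro x
      rw [pow_succ, pow_succ]
      exact ih (f x)
  have h1 : f ^ p ^ 1 = 1 := by
    rw [pow_one]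
    funext x
    apply Subtype.ext
    rw [hf, hE.pow a ha]
    rfl
  have h2 := Equiv.Perm.card_fixedPoints_modEq (f := f) (p := p) (n := 1) h1
  have h3 : Fintype.card (Function.fixedPoints f) = 1 := by
    rw [Fintype.card_eq_one_iff]
    refine ⟨⟨0, Subtype.ext (map_zero a)⟩, ?_⟩
    rintro ⟨x, hx⟩
    apply Subtype.ext
    apply Subtype.ext
    exact hX.fix_free hE ha hna x.2 (congrArg Subtype.val hx)
  rw [h3] at h2
  rwa [Nat.card_eq_fintype_card]

/-- **The linear statement for orthogonal groups.** -/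
theorem lin_orth (hG : Good Q) (hc : (2 : F) = 0 → 7 ≤ p) : LinIso (frmQ Q) p (E Q) := by
  intro A hE hA hAn
  have hfin : Finite V := Module.finite_of_finite F
  have hfin' : Finite (V ≃ₗ[F] V) := Finite.of_injective (fun g : V ≃ₗ[F] V => (g : V → V)) DFunLike.coe_injective
  obtain ⟨S, U, hd, hS, hU⟩ := exists_odec (cl_frmQ hG.nondeg) hE hAn
  refine ⟨enl (frmQ Q) A S U fun X hX => (hS X hX).inv, ea_enl hE hd _, le_enl hE _ hU, fun N hN => ?_⟩
  rw [iso_frmQ]
  have hq : 1 < Nat.card F := Finite.one_lt_card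
  -- `S` is not empty
  have hne : S.Nonempty := by
    by_contra hcon
    rw [Set.not_nonempty_iff_eq_empty] at hcon
    have h1 : ∀ a ∈ A, a = 1 := fun a ha => ext_of_dec hd (fun u hu => hU u hu a ha) fun X hX => by
      rw [hcon] at hX
      exact absurd hX (Set.notMem_empty X)
    have h2 : A = ⊥ := (Subgroup.eq_bot_iff_forall A).2 h1
    rw [h2, Subgroup.card_bot] at hA
    have := hE.prime.two_le
    nlinarith
  obtain ⟨X₀, hX₀⟩ := hne
  have hdim : ∀ X ∈ S, Module.finrank F X = Module.finrank F X₀ := fun X hX =>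
    le_antisymm (finrank_eq_of_gd hE hS hX hX₀) (finrank_eq_of_gd hE hS hX₀ hX)
  obtain ⟨d, hdd⟩ := (hS X₀ hX₀).even hG.nondeg hE
  have h2 := (hS X₀ hX₀).two_le hE
  have hcard := (hS X₀ hX₀).card_modEq hE
  rw [Module.natCard_eq_pow_finrank (K := F) (V := X₀), hdd] at hcard
  -- the field with two elements
  have hF2 : Nat.card F = 2 → 7 ≤ p := by
    intro h
    apply hc
    have := Fintype.ofFinite F
    have h3 := FiniteField.cast_card_eq_zero F
    rw [← Nat.card_eq_fintype_card, h] at h3
    exact_mod_cast h3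
  by_cases hd1 : d = 1
  · -- planes
    subst hd1
    have h22 : ∀ X ∈ S, Module.finrank F X = 2 := fun X hX => by rw [hdim X hX, hdd]
    have ht : (2 : F) = 0 → ∃ t : F, t ≠ 0 ∧ t ≠ 1 := by
      intro h20
      by_contra hcon
      push Not at hcon
      have h3 : Nat.card F = 2 := by
        refine le_antisymm ?_ hq
        classical
        have := Fintype.ofFinite F
        rw [Nat.card_eq_fintype_card, ← Finset.card_univ]
        refine (Finset.card_le_card (t := {0, 1}) fun x _ => ?_).trans Finset.card_le_two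
        by_cases hx : x = 0
        · simp [hx]
        · simp [hcon x hx]
      have h4 := hF2 h3
      rw [h3] at hcard
      have h5 := (Nat.modEq_iff_dvd' (by norm_num)).1 hcard.symm
      norm_num at h5
      have := Nat.le_of_dvd (by norm_num) h5
      omega
    have hNO : N ≤ O Q := by rw [← iso_frmQ]; exact hN.le
    have hfinS : Finite S := by
      have : Finite (Submodule F V) := Finite.of_injective (fun X : Submodule F V => (X : Set V)) SetLike.coe_injective
      exact Subtype.finite
    have := Fintype.ofFinite S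
    have hneS : Nonempty S := ⟨⟨X₀, hX₀⟩⟩
    classical
    refine O_le_of_refl hG fun v hv => ?_
    have h1 : v ∈ U ⊔ ⨆ i : S, (i : Submodule F V) := by
      rw [hd.span]
      trivial
    obtain ⟨u, hu, w, hw, rfl⟩ := Submodule.mem_sup.1 h1
    have h2 : w ∈ ⨆ i ∈ (Finset.univ : Finset S), (i : Submodule F V) := by simpa using hw
    obtain ⟨x, hx⟩ := (Submodule.mem_iSup_finset_iff_exists_sum _ _).1 h2
    subst hx
    have hsup : ∀ X ∈ S, Has1 (frmQ Q) N (U ⊔ X) := fun X hX => has1_sup hG hE hd hS hN hX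
    obtain ⟨n, hn, i, hi⟩ := rchP hd hG.nondeg hNO (fun i j hij =>
      (mg_pair' (cl_frmQ hG.nondeg) hE hd hS (fun g hg k hk => by
        rw [iso_frmQ] at hg hk
        exact Cfsg.Agent.H749.comm_mem_E hG hg hk) hN i.2 j.2 (fun h => hij (Subtype.ext h))
        (has1_X hG hE hd hS hN i.2)).2) (fun i => hsup i i.2)
      (fun i c => exists_value_on (hS i i.2).nd ((hS i i.2).two_le hE) c)
      (fun i => (hS i i.2).anis hE (h22 i i.2)) ht _ u hu (fun i => (x i : V)) (fun i => (x i).2) le_rfl hv
    exact (rv_refl hv).of_conj (by rw [iso_frmQ]; exact hNO hn) hn hi (hsup i i.2)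
  · -- big summands
    have hd2 : 2 ≤ d := by omega
    refine iso_le_of_big hG hE hd hS ⟨X₀, hX₀⟩ (fun X hX => ?_) hN
    rw [Module.natCard_eq_pow_finrank (K := F) (V := X), hdim X hX, hdd]
    set q := Nat.card F with hqd
    by_cases hq3 : 3 ≤ q
    · calc 9 * q ^ 2 = 3 ^ 2 * q ^ 2 := by norm_num
        _ ≤ q ^ 2 * q ^ 2 := Nat.mul_le_mul_right _ (Nat.pow_le_pow_left hq3 2)
        _ = q ^ (2 * 2) := by rw [← pow_add]
        _ ≤ q ^ (2 * d) := Nat.pow_le_pow_right (by omega) (by omega)
    · have hq2 : q = 2 := by omega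
      have h7 := hF2 hq2
      by_cases hd3 : d = 2
      · exfalso
        rw [hq2, hd3] at hcard
        have h5 := (Nat.modEq_iff_dvd' (by norm_num)).1 hcard.symm
        norm_num at h5
        have h6 : p ∣ 3 * 5 := by norm_num; exact h5
        rcases hE.prime.dvd_mul.1 h6 with h8 | h8
        · have := Nat.le_of_dvd (by norm_num) h8
          omega
        · have := Nat.le_of_dvd (by norm_num) h8
          omega
      · rw [hq2]
        calc 9 * 2 ^ 2 ≤ 2 ^ (2 * 3) := by norm_num
          _ ≤ 2 ^ (2 * d) := Nat.pow_le_pow_right (by norm_num) (by omega)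

end Cfsg.Agent.H900.Gen
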