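import Mathlib
import Cfsg.Agent.H847.Bs.Defs2

/-!
# S2187, classical rows: linear algebra frame

`Φ : Frm F V` is a symplectic, hermitian or orthogonal space (`Cl Φ`).  An orthogonal decomposition
`V = U ⟂ X i₁ ⟂ ... ⟂ X iₛ` is given by `ODec Φ U X`.  `Loc Φ W g` : the isometry `g` lives on the nondegenerate
subspace `W` (it fixes the orthogonal complement of `W` pointwise).  `N` is a subgroup of the isometry group.
-/

set_option autoImplicit false

namespace Cfsg.Agent.H900.Gen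

open Cfsg.Agent.H847.Bs QuadraticMap Cfsg.Agent.LieClassical.OrthCore

variable {F V : Type*} [Field F] [AddCommGroup V] [Module F V]

/-- symplectic, hermitian or orthogonal space -/
def Cl (Φ : Frm F V) : Prop :=
  IsSp Φ ∨ (∃ r, IsHerm r Φ) ∨ ∃ Q : QuadraticForm F V, Φ = frmQ Q ∧ Nondeg Q

/-- `x` is orthogonal to `W` -/
def Prp (Φ : Frm F V) (W : Submodule F V) (x : V) : Prop := ∀ w ∈ W, Φ.B x w = 0

/-- `g` fixes the orthogonal complement of `W` pointwise -/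
def Loc (Φ : Frm F V) (W : Submodule F V) (g : V ≃ₗ[F] V) : Prop := ∀ x, Prp Φ W x → g x = x

/-- orthogonal decomposition `V = U ⟂ X i₁ ⟂ ... ⟂ X iₛ` into nondegenerate subspaces -/
structure ODec (Φ : Frm F V) {ι : Type*} (U : Submodule F V) (X : ι → Submodule F V) : Prop where
  span : U ⊔ ⨆ i, X i = ⊤
  ndU : Φ.NdOn U
  nd : ∀ i, Φ.NdOn (X i)
  orthU : ∀ i, Φ.Orth U (X i)
  orth : ∀ i j, i ≠ j → Φ.Orth (X i) (X j)

/-- `N` contains all isometries living on `W` -/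
def Has1 (Φ : Frm F V) (N : Subgroup (V ≃ₗ[F] V)) (W : Submodule F V) : Prop :=
  ∀ g ∈ Φ.Iso, Loc Φ W g → g ∈ N

/-- merging: the sum of the nonzero vectors `x ∈ X`, `y ∈ Y` can be moved into `X` by an element of `N` living on `X ⊔ Y` -/
def Mg (Φ : Frm F V) (N : Subgroup (V ≃ₗ[F] V)) (X Y : Submodule F V) : Prop :=
  ∀ x ∈ X, ∀ y ∈ Y, x ≠ 0 → y ≠ 0 → ∃ n ∈ N, Loc Φ (X ⊔ Y) n ∧ n (x + y) ∈ X

end Cfsg.Agent.H900.Gen
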