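import Mathlib
import Cfsg.Agent.H900.Gen.Fld

/-!
# S2187, classical rows: the linking lemma

`Fld.link_V` : the link in `V`.
-/

set_option autoImplicit false
set_option linter.unusedSectionVars false

namespace Cfsg.Agent.H900.Gen

open Cfsg.Agent.H847.Bs QuadraticMap Cfsg.Agent.LieClassical.OrthCore

variable {F V : Type*} [Field F] [AddCommGroup V] [Module F V] [Finite F] [FiniteDimensional F V]

namespace Fld

variable {Φ : Frm F V} (H : HF Φ) {W : Submodule F V} {b : V ≃ₗ[F] V} {L : Type*} [Field L] [Algebra F L] [Module L W]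
  [IsScalarTower F L W] [Finite L] (D : Fld Φ W b L)

/-- extension of an `L`-linear automorphism of `W` -/
noncomputable def lift : (W ≃ₗ[L] W) →* (V ≃ₗ[F] V) where
  toFun g := ext D.nd (g.restrictScalars F)
  map_one' := (extHom D.nd).map_one
  map_mul' g k := (extHom D.nd).map_mul (g.restrictScalars F) (k.restrictScalars F)

theorem lift_mem (g : W ≃ₗ[L] W) (w : W) : D.lift g w = g w := ext_apply_mem D.nd (g.restrictScalars F) w

theorem lift_perp (g : W ≃ₗ[L] W) {x : V} (hx : Prp Φ W x) : D.lift g x = x :=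
  ext_apply_perp D.nd (g.restrictScalars F) hx

theorem lift_loc (g : W ≃ₗ[L] W) : Loc Φ W (D.lift g) := fun _ hx => D.lift_perp g hx

theorem lift_iso (hΦ : Cl Φ) {g : W ≃ₗ[L] W} (hg : (D.lf H).Isom g) : D.lift g ∈ Φ.Iso :=
  ext_mem_iso D.nd (D.isom_mem H hΦ hg)

include D in
theorem b_perp {x : V} (hx : Prp Φ W x) : Prp Φ W (b x) := by
  intro w hw
  have h1 := D.hβ (D.β⁻¹ • ⟨w, hw⟩)
  rw [smul_smul, mul_inv_cancel₀ D.beta_ne, one_smul] at h1
  change w = _ at h1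
  rw [h1, D.iso.1]
  exact hx _ (D.β⁻¹ • (⟨w, hw⟩ : W)).2

theorem lift_comm (g : W ≃ₗ[L] W) : D.lift g * b = b * D.lift g := by
  ext v
  obtain ⟨w, hw, y, hy, rfl⟩ := exists_dec D.nd v
  have h1 : D.lift g w = g ⟨w, hw⟩ := D.lift_mem g ⟨w, hw⟩
  have h2 : D.lift g (b w) = b (g ⟨w, hw⟩) := by
    have h3 := D.hβ ⟨w, hw⟩
    change _ = b w at h3
    rw [← h3, D.lift_mem, map_smul, D.hβ]
  rw [LinearEquiv.mul_apply, LinearEquiv.mul_apply, map_add, map_add, map_add, map_add, D.lift_perp g hy,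
    D.lift_perp g (D.b_perp hy), h1, h2]

/-- `X` is the line of `x₀` -/
def Ln (L : Type*) [Field L] {W : Submodule F V} [Module L W] (X : Submodule F V) (x₀ : W) : Prop :=
  ∀ x : W, (x : V) ∈ X ↔ ∃ a : L, x = a • x₀

/-- **The link.** -/
theorem link_V (hΦ : Cl Φ) (N : Subgroup (V ≃ₗ[F] V)) {X : Submodule F V} (hXW : X ≤ W) {x₀ : W}
    (hX : Ln L X x₀) (h0 : (D.lf H).h x₀ x₀ ≠ 0)
    (hN1 : ∀ g ∈ Φ.Iso, g * b = b * g → Loc Φ X g → g ∈ N)
    (hN2 : ∀ g ∈ Φ.Iso, ∀ k ∈ Φ.Iso, g * b = b * g → k * b = b * k → Loc Φ W g → Loc Φ W k → g * k * g⁻¹ * k⁻¹ ∈ N)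
    {v : W} (hv : (D.lf H).h v v ≠ 0) (hm : (D.lf H).h v x₀ ≠ 0) :
    ∃ n ∈ N, n ∈ Φ.Iso ∧ Loc Φ W n ∧ n (v : V) ∈ X := by
  obtain ⟨n, hn, hni, a, ha⟩ := (D.lf H).link (N.comap D.lift) h0 (fun z hz => by
    rw [Subgroup.mem_comap]
    refine hN1 _ (D.lift_iso H hΦ ((D.lf H).rf_isom h0 hz)) (D.lift_comm _) ?_
    intro x hx
    obtain ⟨w, hw, y, hy, rfl⟩ := exists_dec D.nd x
    have h1 : Prp Φ X w := by
      intro u hu
      have := hx u hu
      rwa [Φ.add_left, hy u (hXW hu), add_zero] at this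
    have h2 : (D.lf H).h ⟨w, hw⟩ x₀ = 0 := by
      rw [D.h_eq_zero_iff H]
      intro l
      rw [D.adj_spec H]
      exact h1 _ ((hX _).2 ⟨_, rfl⟩)
    have h3 : D.lift ((D.lf H).rf x₀ h0 z ((D.lf H).ne_zero_of_norm hz)) w = w := by
      rw [D.lift_mem _ ⟨w, hw⟩, LF.rf_apply, h2, zero_mul, mul_zero, zero_smul, add_zero]
    rw [map_add, h3, D.lift_perp _ hy]) (fun g k hg hk => by
    rw [Subgroup.mem_comap, map_mul, map_mul, map_mul, map_inv, map_inv]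
    exact hN2 _ (D.lift_iso H hΦ hg) _ (D.lift_iso H hΦ hk) (D.lift_comm g) (D.lift_comm k) (D.lift_loc g)
      (D.lift_loc k)) hv hm
  refine ⟨D.lift n, hn, D.lift_iso H hΦ hni, D.lift_loc n, ?_⟩
  rw [D.lift_mem]
  exact (hX _).2 ⟨a, ha⟩

end Fld

end Cfsg.Agent.H900.Gen
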